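import Groth.Agent.NumType.Basic
import Mathlib.LinearAlgebra.Matrix.NonsingularInverse
import Mathlib.LinearAlgebra.Matrix.ToLinearEquiv

/-!
Edge count of a connected configuration, and the kernel of the intersection matrix.
-/

set_option autoImplicit false

open Finset Models

namespace Groth.Agent.NumType

variable {n : ℕ}

/-- A connected configuration on `n` vertices has at least `n - 1` edges. -/
lemma card_edges_ge {R : Type*} [Ring R] [LinearOrder R] (A : Fin n → Fin n → R)
    (hsymm : ∀ i j, A i j = A j i) (hoff : ∀ i j, i ≠ j → 0 ≤ A i j)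
    (hconn : ∀ I : Finset (Fin n), I.Nonempty → I ≠ univ → ∃ i ∈ I, ∃ j ∉ I, A i j ≠ 0) :
    n ≤ ((univ : Finset (Fin n × Fin n)).filter fun p => p.1 < p.2 ∧ 0 < A p.1 p.2).card + 1 := by
  classical
  rcases Nat.eq_zero_or_pos n with rfl | hn
  · simp
  let E := (univ : Finset (Fin n × Fin n)).filter fun p => p.1 < p.2 ∧ 0 < A p.1 p.2
  have key : ∀ k, 1 ≤ k → k ≤ n → ∃ I : Finset (Fin n), I.card = k ∧
      k ≤ (E.filter fun p => p.1 ∈ I ∧ p.2 ∈ I).card + 1 := by
    intro k
    induction k with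
    | zero => intro h; omega
    | succ k ih =>
      intro _ hk
      rcases Nat.eq_zero_or_pos k with rfl | hk1
      · exact ⟨{⟨0, hn⟩}, by simp⟩
      obtain ⟨I, hI, hcard⟩ := ih hk1 (by omega)
      obtain ⟨i, hi, j, hj, hij⟩ := hconn I (card_pos.mp (by omega)) fun h => by
        rw [h, card_univ, Fintype.card_fin] at hI; omega
      refine ⟨insert j I, by rw [card_insert_of_notMem hj, hI], ?_⟩
      have hne : i ≠ j := fun h => hj (h ▸ hi)
      have hpos : 0 < A i j := lt_of_le_of_ne (hoff i j hne) (Ne.symm hij)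
      obtain ⟨p, hpE, hp1, hp2⟩ : ∃ p ∈ E, (p.1 ∈ insert j I ∧ p.2 ∈ insert j I) ∧ ¬(p.1 ∈ I ∧ p.2 ∈ I) := by
        rcases lt_or_gt_of_ne hne with h | h
        · exact ⟨(i, j), by simp [E, h, hpos], by simp [hi], fun g => hj g.2⟩
        · exact ⟨(j, i), by simp [E, h, hsymm j i, hpos], by simp [hi], fun g => hj g.1⟩
      have : (E.filter fun p => p.1 ∈ I ∧ p.2 ∈ I).card < (E.filter fun p => p.1 ∈ insert j I ∧ p.2 ∈ insert j I).card := by
        refine card_lt_card ((ssubset_iff_of_subset fun q hq => ?_).mpr ⟨p, ?_, ?_⟩)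
        · simp only [mem_filter] at hq ⊢
          exact ⟨hq.1, mem_insert_of_mem hq.2.1, mem_insert_of_mem hq.2.2⟩
        · exact mem_filter.mpr ⟨hpE, hp1⟩
        · exact fun g => hp2 (mem_filter.mp g).2
      omega
  obtain ⟨I, -, h⟩ := key n hn le_rfl
  exact h.trans (Nat.add_le_add_right (card_le_card (filter_subset _ _)) 1)

variable (T : NumericalType n)

/-- The kernel of the intersection matrix is the line through `m`. -/
lemma ker_line {y : Fin n → ℤ} (hy : T.a.mulVec y = 0) (i j : Fin n) :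
    y i * T.m j = y j * T.m i := by
  have hq := quad_nonpos (K := ℚ) (fun i j => (T.a i j : ℚ))
    (fun i j => by rw [symm' T i j]) (fun i j h => by exact_mod_cast T.offDiag_nonneg i j h)
    (fun i => (T.m i : ℚ)) (fun i => by exact_mod_cast T.m_pos i)
    (fun i => le_of_eq (by exact_mod_cast row T i)) (fun i => (y i : ℚ))
  have h0 : ∑ i, ∑ j, T.a i j * y i * y j = 0 := by
    refine sum_eq_zero fun i _ => ?_
    rw [sum_congr rfl fun j _ => show T.a i j * y i * y j = y i * (T.a i j * y j) by ring, ← mul_sum,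
      show ∑ j, T.a i j * y j = 0 from congrFun hy i, mul_zero]
  have hc := const_of_connected (fun i j => (T.a i j : ℚ))
    (fun I h h' => by
      obtain ⟨a, ha, b, hb, hab⟩ := T.connected I h h'
      exact ⟨a, ha, b, hb, by exact_mod_cast hab⟩) _ (hq.2 (by exact_mod_cast h0)).1 i j
  rw [div_eq_div_iff (by exact_mod_cast (T.m_pos i).ne') (by exact_mod_cast (T.m_pos j).ne')] at hc
  exact_mod_cast hc

lemma a_mulVec_eq (y : Fin n → ℤ) : T.a.mulVec y = fun i => T.w i * T.picMatrix.mulVec y i := by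
  funext i
  simp only [Matrix.mulVec, dotProduct, mul_sum, NumericalType.picMatrix]
  exact sum_congr rfl fun j _ => by rw [← mul_assoc, Int.mul_ediv_cancel' (T.w_dvd i j)]

lemma mem_ker_pic_iff (y : Fin n → ℤ) : T.picMatrix.mulVec y = 0 ↔ T.a.mulVec y = 0 := by
  rw [a_mulVec_eq]
  refine ⟨fun h => funext fun i => by simp [h], fun h => funext fun i => ?_⟩
  exact (mul_eq_zero.mp (congrFun h i)).resolve_left (T.w_pos i).ne'

end Groth.Agent.NumType
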