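import Groth.Agent.NumType.Graph
import Groth.Agent.NumType.Extra

/-!
Classification of the configurations on all indices in which every index is a `(-2)`-index.
-/

set_option autoImplicit false

open Finset Models

namespace Groth.Agent.NumType

variable {n k : ℕ} (T : NumericalType n)

/-- If the form is non-negative at a vector, the vector is proportional to `m`. -/
lemma prop_of_quad_nonneg {y : Fin n → ℤ} (hy : 0 ≤ ∑ i, ∑ j, T.a i j * y i * y j) (i j : Fin n) :
    y i * T.m j = y j * T.m i := by
  have hq := quad_nonpos (K := ℚ) (fun i j => (T.a i j : ℚ))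
    (fun i j => by rw [symm' T i j]) (fun i j h => by exact_mod_cast T.offDiag_nonneg i j h)
    (fun i => (T.m i : ℚ)) (fun i => by exact_mod_cast T.m_pos i)
    (fun i => le_of_eq (by exact_mod_cast row T i)) (fun i => (y i : ℚ))
  have hle : ∑ i, ∑ j, T.a i j * y i * y j ≤ 0 := by exact_mod_cast hq.1
  have h0 : ∑ i, ∑ j, T.a i j * y i * y j = 0 := le_antisymm hle hy
  have hc := const_of_connected (fun i j => (T.a i j : ℚ))
    (fun I h h' => by
      obtain ⟨a, ha, b, hb, hab⟩ := T.connected I h h'
      exact ⟨a, ha, b, hb, by exact_mod_cast hab⟩) _ (hq.2 (by exact_mod_cast h0)).1 i j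
  rw [div_eq_div_iff (by exact_mod_cast (T.m_pos i).ne') (by exact_mod_cast (T.m_pos j).ne')] at hc
  exact_mod_cast hc

lemma card_le_of_embedding (v : Fin k ↪ Fin n) : k ≤ n := by
  simpa using Fintype.card_le_of_embedding v

/-- A configuration with a positive null vector for lower bounds is everything, and the bounds are exact. -/
lemma null_full (v : Fin k ↪ Fin n) (hv : ∀ a, T.IsMinusTwo (v a)) (hk : 0 < k)
    (L : Fin k → Fin k → ℤ) (hL : ∀ a b, a ≠ b → L a b ≤ T.a (v a) (v b))
    (x : Fin k → ℤ) (hx : ∀ a, 0 < x a)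
    (hsum : ∀ a, 2 * T.w (v a) * x a ≤ ∑ b ∈ univ.erase a, L a b * x b) :
    k = n ∧ (∀ a b, a ≠ b → T.a (v a) (v b) = L a b) ∧
      (∀ a, ∑ b ∈ univ.erase a, L a b * x b = 2 * T.w (v a) * x a) ∧
      ∀ a b, T.m (v a) * x b = T.m (v b) * x a := by
  have hsum' : ∀ a, 2 * T.w (v a) * x a ≤ ∑ b ∈ univ.erase a, T.a (v a) (v b) * x b := fun a =>
    (hsum a).trans (sum_le_sum fun b hb =>
      mul_le_mul_of_nonneg_right (hL a b (ne_of_mem_erase hb).symm) (hx b).le)
  have hkn : k = n := by
    refine le_antisymm (card_le_of_embedding v) ?_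
    by_contra h; push Not at h
    exact forbidden' T v h hv x (fun a => (hx a).le) ⟨⟨0, hk⟩, (hx _).ne'⟩ fun a _ => hsum' a
  subst hkn
  let e : Fin k ≃ Fin k := Equiv.ofBijective v ((Finite.injective_iff_bijective).mp v.injective)
  let y : Fin k → ℤ := fun i => x (e.symm i)
  have hy : ∀ a, y (v a) = x a := fun a => congrArg x (e.symm_apply_apply a)
  have hQ : ∑ i, ∑ j, T.a i j * y i * y j = ∑ a, ∑ b, T.a (v a) (v b) * x a * x b := by
    rw [← e.sum_comp]
    refine sum_congr rfl fun a _ => ?_
    rw [← e.sum_comp]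
    exact sum_congr rfl fun b _ => by simp [e, hy]
  have hprop : ∀ a b, T.m (v a) * x b = T.m (v b) * x a := by
    intro a b
    have h0 : 0 ≤ ∑ i, ∑ j, T.a i j * y i * y j := by
      rw [hQ]
      refine sum_nonneg fun a _ => ?_
      rw [← sum_erase_add _ _ (mem_univ a), (hv a).2]
      have h2 : ∑ b ∈ univ.erase a, T.a (v a) (v b) * x a * x b =
          x a * ∑ b ∈ univ.erase a, T.a (v a) (v b) * x b := by
        rw [mul_sum]; exact sum_congr rfl fun b _ => by ring
      rw [h2]
      have := mul_nonneg (hx a).le (sub_nonneg.mpr (hsum' a))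
      linarith
    have := prop_of_quad_nonneg T h0 (v b) (v a)
    rw [hy, hy] at this
    linarith
  have hexact : ∀ a, ∑ b ∈ univ.erase a, T.a (v a) (v b) * x b = 2 * T.w (v a) * x a := by
    intro a
    refine mul_left_cancel₀ (T.m_pos (v a)).ne' ?_
    have hr := row T (v a)
    rw [← e.sum_comp, ← sum_erase_add _ _ (mem_univ a)] at hr
    simp only [e, Equiv.ofBijective_apply] at hr
    rw [(hv a).2] at hr
    rw [mul_sum]
    calc ∑ b ∈ univ.erase a, T.m (v a) * (T.a (v a) (v b) * x b)
        = x a * ∑ b ∈ univ.erase a, T.a (v a) (v b) * T.m (v b) := by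
          rw [mul_sum]
          exact sum_congr rfl fun b _ => by linear_combination (T.a (v a) (v b)) * hprop a b
      _ = _ := by linear_combination (x a) * hr
  refine ⟨rfl, fun a b hab => ?_, fun a => le_antisymm ?_ (hsum a), hprop⟩
  · have h1 := hsum a
    have hle : ∀ b ∈ univ.erase a, L a b * x b ≤ T.a (v a) (v b) * x b := fun b hb =>
      mul_le_mul_of_nonneg_right (hL a b (ne_of_mem_erase hb).symm) (hx b).le
    have heq : ∑ b ∈ univ.erase a, L a b * x b = ∑ b ∈ univ.erase a, T.a (v a) (v b) * x b :=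
      le_antisymm (sum_le_sum hle) (by rw [hexact]; exact h1)
    exact (mul_right_cancel₀ (hx b).ne' ((sum_eq_sum_iff_of_le hle).mp heq b (mem_erase.mpr ⟨hab.symm, mem_univ b⟩))).symm
  · exact (sum_le_sum fun b hb =>
      mul_le_mul_of_nonneg_right (hL a b (ne_of_mem_erase hb).symm) (hx b).le).trans (hexact a).le

/-- Same, for a graph in which every edge only contributes its weights. -/
lemma null_graph (v : Fin k ↪ Fin n) (hv : ∀ a, T.IsMinusTwo (v a)) (hk : 0 < k)
    (E : Fin k → Fin k → Prop) [DecidableRel E]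
    (hE : ∀ a b, E a b → a ≠ b ∧ T.a (v a) (v b) ≠ 0) (hEs : ∀ a b, E a b → E b a)
    (x : Fin k → ℤ) (hx : ∀ a, 0 < x a) (hsum : ∀ a, 2 * x a ≤ ∑ b ∈ univ.filter (E a), x b) :
    k = n ∧ (∀ a b, E a b → Simple T (v a) (v b)) ∧ (∀ a b, a ≠ b → ¬ E a b → T.a (v a) (v b) = 0) ∧
      ∀ a b, T.m (v a) * x b = T.m (v b) * x a := by
  let L : Fin k → Fin k → ℤ := fun a b => if E a b then max (T.w (v a)) (T.w (v b)) else 0
  have hrw : ∀ a, ∑ b ∈ univ.erase a, L a b * x b = ∑ b ∈ univ.filter (E a), max (T.w (v a)) (T.w (v b)) * x b := by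
    intro a
    rw [sum_filter, ← sum_erase_add univ _ (mem_univ a), if_neg (fun h => (hE a a h).1 rfl), add_zero]
    exact sum_congr rfl fun b _ => by simp only [L]; split_ifs <;> simp
  obtain ⟨h1, h2, h3, h4⟩ := null_full T v hv hk L (fun a b hab => by
      simp only [L]
      split_ifs with h
      · exact max_le (w_le T (v.injective.ne hab) (hE a b h).2).1 (w_le T (v.injective.ne hab) (hE a b h).2).2
      · exact T.offDiag_nonneg _ _ (v.injective.ne hab)) x hx (fun a => by
      rw [hrw]
      calc 2 * T.w (v a) * x a = T.w (v a) * (2 * x a) := by ring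
        _ ≤ T.w (v a) * ∑ b ∈ univ.filter (E a), x b := mul_le_mul_of_nonneg_left (hsum a) (T.w_pos _).le
        _ ≤ _ := by
          rw [mul_sum]
          exact sum_le_sum fun b _ => mul_le_mul_of_nonneg_right (le_max_left _ _) (hx b).le)
  have hmax : ∀ a b, E a b → T.w (v b) ≤ T.w (v a) := by
    intro a b hab
    have hle : ∀ c ∈ univ.filter (E a), T.w (v a) * x c ≤ max (T.w (v a)) (T.w (v c)) * x c := fun c _ =>
      mul_le_mul_of_nonneg_right (le_max_left _ _) (hx c).le
    have heq : ∑ c ∈ univ.filter (E a), T.w (v a) * x c = ∑ c ∈ univ.filter (E a), max (T.w (v a)) (T.w (v c)) * x c := by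
      refine le_antisymm (sum_le_sum hle) ?_
      rw [← hrw, h3, ← mul_sum]
      calc 2 * T.w (v a) * x a = T.w (v a) * (2 * x a) := by ring
        _ ≤ _ := mul_le_mul_of_nonneg_left (hsum a) (T.w_pos _).le
    have := mul_right_cancel₀ (hx b).ne' ((sum_eq_sum_iff_of_le hle).mp heq b (by simp [hab]))
    exact (le_max_right _ _).trans this.ge
  refine ⟨h1, fun a b hab => ?_, fun a b hab h => by rw [h2 a b hab]; exact if_neg h, h4⟩
  have e := le_antisymm (hmax a b hab) (hmax b a (hEs a b hab))
  refine ⟨e, ?_⟩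
  rw [h2 a b (hE a b hab).1]
  simp only [L, if_pos hab, e, max_self]

/-- The exact row of a `(-2)`-index whose neighbours are known. -/
lemma row_exact {i : Fin n} (hi : T.IsMinusTwo i) (s : Finset (Fin n)) (hs : i ∉ s)
    (hz : ∀ j, j ≠ i → j ∉ s → T.a i j = 0) : ∑ j ∈ s, T.a i j * T.m j = 2 * T.w i * T.m i := by
  have h := row_eq T i
  rw [hi.2] at h
  rw [show 2 * T.w i * T.m i = ∑ j ∈ univ.erase i, T.a i j * T.m j by rw [h]; ring]
  refine sum_subset (fun j hj => mem_erase.mpr ⟨fun e => hs (e ▸ hj), mem_univ _⟩) fun j hj hjs => ?_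
  rw [hz j (ne_of_mem_erase hj) hjs, zero_mul]

lemma row_exact1 {i p : Fin n} (hi : T.IsMinusTwo i) (hp : i ≠ p)
    (hz : ∀ j, j ≠ i → j ≠ p → T.a i j = 0) : T.a i p * T.m p = 2 * T.w i * T.m i := by
  simpa using row_exact T hi {p} (by simpa using hp) (by simpa using hz)

lemma row_exact2 {i p q : Fin n} (hi : T.IsMinusTwo i) (hp : i ≠ p) (hq : i ≠ q) (hpq : p ≠ q)
    (hz : ∀ j, j ≠ i → j ≠ p → j ≠ q → T.a i j = 0) :
    T.a i p * T.m p + T.a i q * T.m q = 2 * T.w i * T.m i := by
  have := row_exact T hi {p, q} (by simp [hp, hq]) (fun j h1 h2 => by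
    simp only [mem_insert, mem_singleton, not_or] at h2
    exact hz j h1 h2.1 h2.2)
  rwa [sum_pair hpq] at this

/-- The listed data, up to a permutation and common factors. -/
def Fits (M W : Fin n → ℤ) (A : Fin n → Fin n → ℤ) : Prop :=
  ∃ (σ : Equiv.Perm (Fin n)) (m w : ℤ), (∀ i, T.m (σ i) = M i * m) ∧ (∀ i, T.w (σ i) = W i * w) ∧
    ∀ i j : Fin n, i.val < j.val → T.a (σ i) (σ j) = A i j * w

section Tables

def cycA : Fin n → Fin n → ℤ := fun i j => if j.val = i.val + 1 ∨ (i.val = 0 ∧ j.val + 1 = n) then 1 else 0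
def uuM : Fin n → ℤ := fun i => if i.val + 1 = n then 1 else 2
def uuW : Fin n → ℤ := fun i => if i.val = 0 then 1 else if i.val + 1 = n then 4 else 2
def uuA : Fin n → Fin n → ℤ := fun i j => if j.val = i.val + 1 then (if j.val + 1 = n then 4 else 2) else 0
def udW : Fin n → ℤ := fun i => if i.val = 0 ∨ i.val + 1 = n then 1 else 2
def udA : Fin n → Fin n → ℤ := fun i j => if j.val = i.val + 1 then 2 else 0
def duM : Fin n → ℤ := fun i => if i.val = 0 ∨ i.val + 1 = n then 1 else 2
def duW : Fin n → ℤ := fun i => if i.val = 0 ∨ i.val + 1 = n then 2 else 1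
def duA : Fin n → Fin n → ℤ := fun i j =>
  if j.val = i.val + 1 then (if i.val = 0 ∨ j.val + 1 = n then 2 else 1) else 0
def dEdge (n : ℕ) (i j : ℕ) : Prop := (j = i + 1 ∧ j + 2 ≤ n) ∨ (i + 3 = n ∧ j + 1 = n)
instance (n i j : ℕ) : Decidable (dEdge n i j) := by unfold dEdge; infer_instance
def dUpM : Fin n → ℤ := fun i => if i.val = 0 ∨ n ≤ i.val + 2 then 1 else 2
def dUpW : Fin n → ℤ := fun i => if i.val = 0 then 2 else 1
def dUpA : Fin n → Fin n → ℤ := fun i j =>
  if dEdge n i.val j.val then (if i.val = 0 then 2 else 1) else 0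
def dDownM : Fin n → ℤ := fun i => if n ≤ i.val + 2 then 1 else 2
def dDownW : Fin n → ℤ := fun i => if i.val = 0 then 1 else 2
def dDownA : Fin n → Fin n → ℤ := fun i j => if dEdge n i.val j.val then 2 else 0
def forkEdge (n : ℕ) (i j : ℕ) : Prop :=
  (i = 0 ∧ j = 2) ∨ (i = 1 ∧ j = 2) ∨ (j = i + 1 ∧ 2 ≤ i ∧ j + 2 ≤ n) ∨ (i + 3 = n ∧ j + 1 = n)
instance (n i j : ℕ) : Decidable (forkEdge n i j) := by unfold forkEdge; infer_instance
def forkM : Fin n → ℤ := fun i => if i.val ≤ 1 ∨ n ≤ i.val + 2 then 1 else 2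
def forkA : Fin n → Fin n → ℤ := fun i j => if forkEdge n i.val j.val then 1 else 0
def f4aM : Fin n → ℤ := fun i => [1, 2, 3, 2, 1].getD i.val 0
def f4aW : Fin n → ℤ := fun i => [1, 1, 1, 2, 2].getD i.val 0
def f4aA : Fin n → Fin n → ℤ := fun i j => if j.val = i.val + 1 then [1, 1, 2, 2].getD i.val 0 else 0
def f4bM : Fin n → ℤ := fun i => [1, 2, 3, 4, 2].getD i.val 0
def f4bW : Fin n → ℤ := fun i => [2, 2, 2, 1, 1].getD i.val 0
def f4bA : Fin n → Fin n → ℤ := fun i j => if j.val = i.val + 1 then [2, 2, 2, 1].getD i.val 0 else 0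
def e6M : Fin n → ℤ := fun i => [1, 2, 3, 1, 2, 1, 2].getD i.val 0
def e6A : Fin n → Fin n → ℤ := fun i j =>
  if (i.val, j.val) ∈ [(0, 1), (1, 2), (2, 4), (3, 4), (2, 6), (5, 6)] then 1 else 0
def e7M : Fin n → ℤ := fun i => [1, 2, 3, 4, 3, 2, 1, 2].getD i.val 0
def e7A : Fin n → Fin n → ℤ := fun i j =>
  if (j.val = i.val + 1 ∧ j.val ≤ 6) ∨ (i.val = 3 ∧ j.val = 7) then 1 else 0
def e8M : Fin n → ℤ := fun i => [1, 2, 3, 4, 5, 6, 4, 2, 3].getD i.val 0
def e8A : Fin n → Fin n → ℤ := fun i j =>
  if (j.val = i.val + 1 ∧ j.val ≤ 7) ∨ (i.val = 5 ∧ j.val = 8) then 1 else 0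

/-- The classification list. -/
def Affine : Prop :=
  Fits T (fun _ => 1) (fun _ => 1) cycA ∨ Fits T uuM uuW uuA ∨ Fits T (fun _ => 1) udW udA ∨
    Fits T duM duW duA ∨ Fits T dUpM dUpW dUpA ∨ Fits T dDownM dDownW dDownA ∨
    (5 ≤ n ∧ Fits T forkM (fun _ => 1) forkA) ∨
    (n = 5 ∧ Fits T f4aM f4aW f4aA) ∨ (n = 5 ∧ Fits T f4bM f4bW f4bA) ∨
    (n = 7 ∧ Fits T e6M (fun _ => 1) e6A) ∨ (n = 8 ∧ Fits T e7M (fun _ => 1) e7A) ∨
    (n = 9 ∧ Fits T e8M (fun _ => 1) e8A)

end Tables

variable {T}

/-- Make a permutation from a full embedding. -/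
lemma fits_of_embedding {M W : Fin n → ℤ} {A : Fin n → Fin n → ℤ} (v : Fin n ↪ Fin n) (m w : ℤ)
    (hm : ∀ i, T.m (v i) = M i * m) (hw : ∀ i, T.w (v i) = W i * w)
    (ha : ∀ i j : Fin n, i.val < j.val → T.a (v i) (v j) = A i j * w) : Fits T M W A :=
  ⟨Equiv.ofBijective v ((Finite.injective_iff_bijective).mp v.injective), m, w, hm, hw, ha⟩

variable (T)

section Cases

variable (hall : ∀ i, T.IsMinusTwo i)
include hall

/-- A chord in a chain closes a cycle through all indices. -/
lemma cycle_case (v : Fin k ↪ Fin n) (hc : IsChain T v) (j l : Fin k) (h : j.val + 1 < l.val)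
    (hne : T.a (v j) (v l) ≠ 0) : Affine T := by
  have hl := l.2
  obtain ⟨L, hLd⟩ : ∃ L, L = l.val - j.val + 1 := ⟨_, rfl⟩
  let e : Fin L ↪ Fin n := ⟨fun a => v ⟨j.val + a.val, by have := a.2; omega⟩,
    fun a b hab => Fin.ext (by have := congrArg Fin.val (v.injective hab); simp at this; omega)⟩
  let E : Fin L → Fin L → Prop := fun a b => b.val = a.val + 1 ∨ a.val = b.val + 1 ∨
    (a.val = 0 ∧ b.val + 1 = L) ∨ (b.val = 0 ∧ a.val + 1 = L)
  have hE : ∀ a b, E a b → a ≠ b ∧ T.a (e a) (e b) ≠ 0 := by
    intro a b hab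
    have := a.2
    have := b.2
    refine ⟨Fin.ne_of_val_ne (by simp only [E] at hab; omega), ?_⟩
    rcases hab with g | g | ⟨g, g'⟩ | ⟨g, g'⟩
    · exact hc _ _ (by simp; omega)
    · rw [symm' T]; exact hc _ _ (by simp; omega)
    · rw [show e a = v j from congrArg v (Fin.ext (by simp; omega)), show e b = v l from congrArg v (Fin.ext (by simp; omega))]
      exact hne
    · rw [symm' T, show e b = v j from congrArg v (Fin.ext (by simp; omega)), show e a = v l from congrArg v (Fin.ext (by simp; omega))]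
      exact hne
  obtain ⟨hkn, hs, hz, hm⟩ := null_graph T e (fun a => hall _) (by omega) E hE
    (fun a b g => by simp only [E] at g ⊢; omega) (fun _ => 1) (fun _ => one_pos) fun a => by
      have := a.2
      let N : Fin L := if g : a.val + 1 < L then ⟨a.val + 1, g⟩ else ⟨0, by omega⟩
      let P : Fin L := if g : 0 < a.val then ⟨a.val - 1, by omega⟩ else ⟨L - 1, by omega⟩
      have hN : N.val = if a.val + 1 < L then a.val + 1 else 0 := by simp only [N]; split_ifs <;> rfl
      have hP : P.val = if 0 < a.val then a.val - 1 else L - 1 := by simp only [P]; split_ifs <;> rfl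
      have hNP : N ≠ P := Fin.ne_of_val_ne (by rw [hN, hP]; split_ifs <;> omega)
      refine le_trans (by rw [sum_pair hNP]; norm_num) (sum_le_sum_of_subset_of_nonneg (s := {N, P}) ?_ fun _ _ _ => zero_le_one)
      intro b hb
      simp only [mem_insert, mem_singleton] at hb
      simp only [mem_filter, mem_univ, true_and, E]
      rcases hb with rfl | rfl
      · rw [hN]; split_ifs <;> omega
      · rw [hP]; split_ifs <;> omega
  let a0 : Fin L := ⟨0, by omega⟩
  have hw : ∀ a : Fin L, T.w (e a) = T.w (e a0) := fun a =>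
    simple_run T a0 a (Nat.zero_le _) fun x y _ _ g => hs x y (Or.inl g)
  left
  refine fits_of_embedding ((finCongr hkn.symm).toEmbedding.trans e) (T.m (e a0)) (T.w (e a0))
    (fun i => ?_) (fun i => ?_) (fun i i' hii => ?_)
  · simpa using hm (Fin.cast hkn.symm i) a0
  · rw [one_mul]; exact hw _
  · have hdef : ∀ i : Fin n, ((finCongr hkn.symm).toEmbedding.trans e) i = e (Fin.cast hkn.symm i) := fun _ => rfl
    simp only [hdef, cycA]
    split_ifs with g
    · rw [one_mul, (hs _ _ ?_).2]
      · exact hw _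
      · simp only [E, Fin.val_cast]; omega
    · rw [zero_mul]
      refine hz _ _ (Fin.ne_of_val_ne (by simp; omega)) ?_
      simp only [E, Fin.val_cast]; omega

/-- Two extra leaves attached to a chain. -/
lemma fork_case (v : Fin k ↪ Fin n) (hc : IsChain T v) (hkn : k + 2 ≤ n) (c c' : Fin n) (hcc : c ≠ c')
    (hc0 : ∀ a, v a ≠ c) (hc0' : ∀ a, v a ≠ c') (p p' : Fin k) (hp : 0 < p.val) (hpp : p.val ≤ p'.val)
    (hp' : p'.val + 1 < k) (e1 : T.a c (v p) ≠ 0) (e2 : T.a (v p') c' ≠ 0) : Affine T := by
  obtain ⟨D, hD⟩ : ∃ D, D = p'.val - p.val := ⟨_, rfl⟩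
  let f : Fin (D + 5) → Fin n := fun a =>
    if a.val = 0 then c else if h : a.val ≤ D + 3 then v ⟨p.val + a.val - 2, by omega⟩ else c'
  have hf0 : ∀ a : Fin (D + 5), a.val = 0 → f a = c := fun a h => if_pos h
  have hf1 : ∀ (a : Fin (D + 5)) (h0 : a.val ≠ 0) (h : a.val ≤ D + 3),
      f a = v ⟨p.val + a.val - 2, by omega⟩ := fun a h0 h => (if_neg h0).trans (dif_pos h)
  have hf2 : ∀ a : Fin (D + 5), a.val = D + 4 → f a = c' := fun a h =>
    (if_neg (by omega)).trans (dif_neg (by omega))
  have hinj : Function.Injective f := by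
    intro a b hab
    have := a.2; have := b.2
    by_cases a0 : a.val = 0
    · by_cases b0 : b.val = 0
      · exact Fin.ext (by omega)
      by_cases b1 : b.val ≤ D + 3
      · rw [hf0 a a0, hf1 b b0 b1] at hab; exact absurd hab.symm (hc0 _)
      · rw [hf0 a a0, hf2 b (by omega)] at hab; exact absurd hab hcc
    by_cases a1 : a.val ≤ D + 3
    · by_cases b0 : b.val = 0
      · rw [hf1 a a0 a1, hf0 b b0] at hab; exact absurd hab (hc0 _)
      by_cases b1 : b.val ≤ D + 3
      · rw [hf1 a a0 a1, hf1 b b0 b1] at hab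
        have := congrArg Fin.val (v.injective hab)
        simp at this
        exact Fin.ext (by omega)
      · rw [hf1 a a0 a1, hf2 b (by omega)] at hab; exact absurd hab (hc0' _)
    by_cases b0 : b.val = 0
    · rw [hf2 a (by omega), hf0 b b0] at hab; exact absurd hab.symm hcc
    by_cases b1 : b.val ≤ D + 3
    · rw [hf2 a (by omega), hf1 b b0 b1] at hab; exact absurd hab.symm (hc0' _)
    · exact Fin.ext (by omega)
  let E : Fin (D + 5) → Fin (D + 5) → Prop := fun a b => forkEdge (D + 5) a.val b.val ∨ forkEdge (D + 5) b.val a.val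
  have hedge : ∀ a b : Fin (D + 5), forkEdge (D + 5) a.val b.val → T.a (f a) (f b) ≠ 0 := by
    intro a b hab
    have := a.2; have := b.2
    rcases hab with ⟨g, g'⟩ | ⟨g, g'⟩ | ⟨g, g', g''⟩ | ⟨g, g'⟩
    · rw [hf0 a g, hf1 b (by omega) (by omega), show (⟨p.val + b.val - 2, by omega⟩ : Fin k) = p from Fin.ext (by simp; omega)]
      exact e1
    · rw [hf1 a (by omega) (by omega), hf1 b (by omega) (by omega)]
      exact hc _ _ (by simp; omega)
    · rw [hf1 a (by omega) (by omega), hf1 b (by omega) (by omega)]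
      exact hc _ _ (by simp; omega)
    · rw [hf2 b (by omega), hf1 a (by omega) (by omega), show (⟨p.val + a.val - 2, by omega⟩ : Fin k) = p' from Fin.ext (by simp; omega)]
      exact e2
  let x : Fin (D + 5) → ℤ := forkM
  obtain ⟨hn, hs, hz, hm⟩ := null_graph T ⟨f, hinj⟩ (fun a => hall _) (by omega) E (fun a b hab => by
      refine ⟨Fin.ne_of_val_ne (by simp only [E, forkEdge] at hab; omega), ?_⟩
      rcases hab with g | g
      · exact hedge a b g
      · rw [symm' T]; exact hedge b a g)
    (fun a b g => g.symm) x (fun a => by simp only [x, forkM]; split_ifs <;> norm_num) fun a => by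
      have hx2 : ∀ b : Fin (D + 5), 2 ≤ b.val → b.val ≤ D + 2 → x b = 2 := fun b g g' => by
        simp only [x, forkM]; rw [if_neg]; omega
      have hx1 : ∀ b : Fin (D + 5), b.val ≤ 1 ∨ D + 3 ≤ b.val → x b = 1 := fun b g => by
        simp only [x, forkM]; rw [if_pos]; omega
      have hnn : ∀ b, 0 ≤ x b := fun b => by simp only [x, forkM]; split_ifs <;> norm_num
      have key : ∀ N : Finset (Fin (D + 5)), (∀ b ∈ N, E a b) → ∑ b ∈ N, x b ≤ ∑ b ∈ univ.filter (E a), x b :=
        fun N hN => sum_le_sum_of_subset_of_nonneg (fun b hb => by simpa using hN b hb) fun b _ _ => hnn b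
      have := a.2
      by_cases c1 : a.val ≤ 1
      · refine le_trans ?_ (key {⟨2, by omega⟩} fun b hb => ?_)
        · rw [sum_singleton, hx1 a (Or.inl c1), hx2 ⟨2, by omega⟩ (Nat.le_refl 2) (Nat.le_add_left 2 D)]; norm_num
        · rw [mem_singleton.mp hb]; simp only [E, forkEdge, and_true, true_and]; omega
      by_cases c2 : D + 3 ≤ a.val
      · refine le_trans ?_ (key {⟨D + 2, by omega⟩} fun b hb => ?_)
        · rw [sum_singleton, hx1 a (Or.inr c2), hx2 ⟨D + 2, by omega⟩ (by simp) (Nat.le_refl _)]; norm_num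
        · rw [mem_singleton.mp hb]; simp only [E, forkEdge, and_true, true_and]; omega
      rw [hx2 a (by omega) (by omega)]
      by_cases c3 : a.val = 2
      · by_cases c4 : D = 0
        · refine le_trans ?_ (key {⟨0, by omega⟩, ⟨1, by omega⟩, ⟨3, by omega⟩, ⟨4, by omega⟩} fun b hb => ?_)
          · rw [sum_insert (by simp [Fin.ext_iff]), sum_insert (by simp [Fin.ext_iff]), sum_pair (by simp [Fin.ext_iff]),
              hx1 ⟨0, by omega⟩ (Or.inl (by simp)), hx1 ⟨1, by omega⟩ (Or.inl (by simp)),
              hx1 ⟨3, by omega⟩ (Or.inr (by simp; omega)), hx1 ⟨4, by omega⟩ (Or.inr (by simp; omega))]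
            norm_num
          · simp only [mem_insert, mem_singleton] at hb
            rcases hb with rfl | rfl | rfl | rfl <;> simp only [E, forkEdge, and_true, true_and] <;> omega
        · refine le_trans ?_ (key {⟨0, by omega⟩, ⟨1, by omega⟩, ⟨3, by omega⟩} fun b hb => ?_)
          · rw [sum_insert (by simp [Fin.ext_iff]), sum_pair (by simp [Fin.ext_iff]),
              hx1 ⟨0, by omega⟩ (Or.inl (by simp)), hx1 ⟨1, by omega⟩ (Or.inl (by simp)),
              hx2 ⟨3, by omega⟩ (by simp) (by simp; omega)]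
            norm_num
          · simp only [mem_insert, mem_singleton] at hb
            rcases hb with rfl | rfl | rfl <;> simp only [E, forkEdge, and_true, true_and] <;> omega
      by_cases c4 : a.val = D + 2
      · refine le_trans ?_ (key {⟨D + 3, by omega⟩, ⟨D + 4, by omega⟩, ⟨D + 1, by omega⟩} fun b hb => ?_)
        · rw [sum_insert (by simp [Fin.ext_iff]), sum_pair (by simp [Fin.ext_iff]),
            hx1 ⟨D + 3, by omega⟩ (Or.inr (by simp)), hx1 ⟨D + 4, by omega⟩ (Or.inr (by simp)),
            hx2 ⟨D + 1, by omega⟩ (by simp; omega) (by simp)]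
          norm_num
        · simp only [mem_insert, mem_singleton] at hb
          rcases hb with rfl | rfl | rfl <;> simp only [E, forkEdge, and_true, true_and] <;> omega
      · refine le_trans ?_ (key {⟨a.val - 1, by omega⟩, ⟨a.val + 1, by omega⟩} fun b hb => ?_)
        · rw [sum_pair (by simp [Fin.ext_iff]),
            hx2 ⟨a.val - 1, by omega⟩ (by simp; omega) (by simp; omega),
            hx2 ⟨a.val + 1, by omega⟩ (by simp; omega) (by simp; omega)]
          norm_num
        · simp only [mem_insert, mem_singleton] at hb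
          rcases hb with rfl | rfl <;> simp only [E, forkEdge, and_true, true_and] <;> omega
  simp only [Function.Embedding.coeFn_mk] at hs hz hm
  let a1 : Fin (D + 5) := ⟨1, by omega⟩
  let a2 : Fin (D + 5) := ⟨2, by omega⟩
  have hchainw : ∀ a : Fin (D + 5), 2 ≤ a.val → a.val ≤ D + 3 → T.w (f a) = T.w (f a2) := fun a g g' =>
    simple_run T (v := ⟨f, hinj⟩) a2 a g fun x y gx gy gxy => hs x y (Or.inl (by simp [a2] at gx; simp only [forkEdge]; omega))
  have hw : ∀ a : Fin (D + 5), T.w (f a) = T.w (f a2) := by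
    intro a
    have := a.2
    by_cases g : a.val ≤ 1
    · exact (hs a a2 (Or.inl (by simp only [forkEdge, a2, and_true]; omega))).1.symm
    by_cases g' : a.val ≤ D + 3
    · exact hchainw a (by omega) g'
    · rw [(hs ⟨D + 2, by omega⟩ a (Or.inl (by simp only [forkEdge, true_and]; omega))).1]
      exact hchainw ⟨D + 2, by omega⟩ (by simp) (by simp)
  refine Or.inr (Or.inr (Or.inr (Or.inr (Or.inr (Or.inr (Or.inl ⟨by omega, ?_⟩))))))
  subst hn
  refine fits_of_embedding ⟨f, hinj⟩ (T.m (f a1)) (T.w (f a2)) (fun i => ?_) (fun i => ?_) (fun i j hij => ?_)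
  · have := hm i a1
    rw [show x a1 = 1 from if_pos (Or.inl le_rfl), mul_one] at this
    exact this.trans (mul_comm _ _)
  · rw [one_mul]; exact hw i
  · simp only [forkA, Function.Embedding.coeFn_mk]
    split_ifs with g
    · rw [one_mul, (hs i j (Or.inl g)).2]; exact hw i
    · rw [zero_mul]
      refine hz i j (Fin.ne_of_val_ne (by omega)) ?_
      simp only [E]; rintro (g' | g')
      · exact g g'
      · simp only [forkEdge] at g'; omega

/-- A long arm at a branch vertex: completed `E6`. -/
lemma e6_case (v : Fin k ↪ Fin n) (hc : IsChain T v) (c d : Fin n) (hcd : c ≠ d)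
    (hc0 : ∀ a, v a ≠ c) (hd0 : ∀ a, v a ≠ d) (p : Fin k) (hp : 2 ≤ p.val) (hp' : p.val + 2 < k)
    (e1 : T.a c (v p) ≠ 0) (e2 : T.a d c ≠ 0) : Affine T := by
  let q : Fin 5 → Fin k := fun i => ⟨p.val + i.val - 2, by omega⟩
  have hq : ∀ a b, a ≠ b → v (q a) ≠ v (q b) := fun a b h => v.injective.ne fun e => h
    (Fin.ext (by have := congrArg Fin.val e; simp [q] at this; omega))
  have hqp : q 2 = p := Fin.ext (by simp [q])
  let f : Fin 7 ↪ Fin n := ⟨![v (q 0), v (q 1), v (q 2), d, c, v (q 4), v (q 3)], fun a b h => by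
    fin_cases a <;> fin_cases b <;> first
      | rfl
      | (exfalso; simp at h; first
          | exact hq _ _ (by decide) h | exact hq _ _ (by decide) (congrArg v h)
          | exact hc0 _ h | exact hd0 _ h | exact hc0 _ h.symm | exact hd0 _ h.symm
          | exact hcd h | exact hcd h.symm)⟩
  let E : Fin 7 → Fin 7 → Prop := fun a b => (a.val, b.val) ∈ [(0, 1), (1, 2), (2, 4), (3, 4), (2, 6), (5, 6),
    (1, 0), (2, 1), (4, 2), (4, 3), (6, 2), (6, 5)]
  have hqc : ∀ a b : Fin 5, b.val = a.val + 1 → T.a (v (q a)) (v (q b)) ≠ 0 := fun a b h =>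
    hc _ _ (by simp [q]; omega)
  have h01 := hqc 0 1 rfl
  have h12 := hqc 1 2 rfl
  have h23 := hqc 2 3 rfl
  have h34 := hqc 3 4 rfl
  have e1' : T.a c (v (q 2)) ≠ 0 := by rw [hqp]; exact e1
  obtain ⟨hn, hs, hz, hm⟩ := null_graph T f (fun a => hall _) (by norm_num) E (fun a b hab => by
      fin_cases a <;> fin_cases b <;> simp [E] at hab <;> refine ⟨by decide, ?_⟩ <;> simp [f] <;> first
        | exact h01 | exact h12 | exact h23 | exact h34 | exact e1' | exact e2
        | (rw [symm' T]; first | exact h01 | exact h12 | exact h23 | exact h34 | exact e1' | exact e2))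
    (fun a b g => by fin_cases a <;> fin_cases b <;> simp [E] at g ⊢)
    e6M (fun a => by fin_cases a <;> decide) (fun a => by fin_cases a <;> decide)
  subst hn
  have w12 := (hs 1 2 (by decide)).1
  have w01 := (hs 0 1 (by decide)).1
  have w24 := (hs 2 4 (by decide)).1
  have w34 := (hs 3 4 (by decide)).1
  have w26 := (hs 2 6 (by decide)).1
  have w56 := (hs 5 6 (by decide)).1
  refine Or.inr (Or.inr (Or.inr (Or.inr (Or.inr (Or.inr (Or.inr (Or.inr (Or.inr (Or.inl ⟨rfl, ?_⟩)))))))))
  have hw : ∀ i : Fin 7, T.w (f i) = T.w (f 2) := fun i => by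
    fin_cases i
    · show T.w (f 0) = _; linarith
    · show T.w (f 1) = _; linarith
    · rfl
    · show T.w (f 3) = _; linarith
    · show T.w (f 4) = _; linarith
    · show T.w (f 5) = _; linarith
    · show T.w (f 6) = _; linarith
  refine fits_of_embedding f (T.m (f 0)) (T.w (f 2)) (fun i => ?_) (fun i => by rw [one_mul]; exact hw i)
    (fun i j hij => ?_)
  · have := hm i 0
    rw [show e6M (0 : Fin 7) = 1 from rfl, mul_one] at this
    rw [this, mul_comm]
  · have key : ∀ i j : Fin 7, i.val < j.val → (E i j ↔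
        (i.val, j.val) ∈ [(0, 1), (1, 2), (2, 4), (3, 4), (2, 6), (5, 6)]) := by simp only [E]; decide
    simp only [e6A]
    split_ifs with g
    · rw [one_mul, (hs i j ((key i j hij).mpr g)).2]; exact hw i
    · rw [zero_mul]
      exact hz i j (Fin.ne_of_val_ne (by omega)) (fun h => g ((key i j hij).mp h))

omit hall

/-- A chain with a double edge running into a branch vertex whose two other edges end in leaves. -/
lemma dTree_case (hall : ∀ i, T.IsMinusTwo i) (v : Fin k ↪ Fin n) (hc : IsChain T v) (hn : n = k + 1)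
    (c : Fin n) (hc0 : ∀ a, v a ≠ c) (p : Fin k) (hp' : p.val + 1 < k) (e1 : T.a (v p) c ≠ 0)
    (j0 j1 : Fin k) (hj : j1.val = j0.val + 1) (hjp : j1.val ≤ p.val) (hd : Double T (v j0) (v j1))
    (hs : ∀ a b : Fin k, j1.val ≤ a.val → b.val ≤ p.val → b.val = a.val + 1 → Simple T (v a) (v b)) :
    Affine T := by
  obtain ⟨P, Q, hPQ, hP, hQ, hA, hB⟩ := hd
  obtain ⟨s, hsd⟩ : ∃ s, s = p.val - j0.val := ⟨_, rfl⟩
  let pn : Fin k := ⟨p.val + 1, hp'⟩
  let f : Fin (s + 3) → Fin n := fun a => if h : a.val ≤ s + 1 then v ⟨j0.val + a.val, by omega⟩ else c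
  have hf1 : ∀ (a : Fin (s + 3)) (h : a.val ≤ s + 1), f a = v ⟨j0.val + a.val, by omega⟩ := fun a h => dif_pos h
  have hf2 : ∀ a : Fin (s + 3), a.val = s + 2 → f a = c := fun a h => dif_neg (by omega)
  have hinj : Function.Injective f := by
    intro a b hab
    have := a.2; have := b.2
    by_cases ga : a.val ≤ s + 1
    · by_cases gb : b.val ≤ s + 1
      · rw [hf1 a ga, hf1 b gb] at hab
        have := congrArg Fin.val (v.injective hab)
        simp at this
        exact Fin.ext (by omega)
      · rw [hf1 a ga, hf2 b (by omega)] at hab; exact absurd hab (hc0 _)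
    · by_cases gb : b.val ≤ s + 1
      · rw [hf2 a (by omega), hf1 b gb] at hab; exact absurd hab.symm (hc0 _)
      · exact Fin.ext (by omega)
  have hW : ∀ a : Fin k, j1.val ≤ a.val → a.val ≤ p.val → T.w (v a) = T.w (v j1) := fun a h1 h2 =>
    simple_run T j1 a h1 fun x y g1 g2 g3 => hs x y g1 (by omega) g3
  set W := T.w (v j1) with hWdef
  -- lower bounds on the edges
  let val : ℕ → ℕ → ℤ := fun i j =>
    if i = 0 ∧ j = 1 then T.a (v j0) (v j1)
    else if j = i + 1 ∧ 1 ≤ i ∧ j ≤ s then W
    else if i = s ∧ j = s + 1 then max W (T.w (v pn))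
    else if i = s ∧ j = s + 2 then max W (T.w c)
    else 0
  let L : Fin (s + 3) → Fin (s + 3) → ℤ := fun a b => if a.val < b.val then val a.val b.val else val b.val a.val
  let x : Fin (s + 3) → ℤ := fun a => if a.val = 0 then P else if s + 1 ≤ a.val then 1 else 2
  have hs1 : 1 ≤ s := by omega
  have fa0 : f ⟨0, by omega⟩ = v j0 := by rw [hf1 _ (by simp)]; rfl
  have fs : ∀ a : Fin (s + 3), a.val = s → f a = v p := fun a h => by
    rw [hf1 a (by omega)]; exact congrArg v (Fin.ext (by simp; omega))
  have fs1 : ∀ a : Fin (s + 3), a.val = s + 1 → f a = v pn := fun a h => by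
    rw [hf1 a (by omega)]; exact congrArg v (Fin.ext (by simp [pn]; omega))
  have hval : ∀ a b : Fin (s + 3), a.val < b.val → val a.val b.val ≤ T.a (f a) (f b) := by
    intro a b hab
    have hne : f a ≠ f b := hinj.ne (Fin.ne_of_val_ne (by omega))
    simp only [val]
    split_ifs with g1 g2 g3 g4
    · rw [hf1 a (by omega), hf1 b (by omega)]
      rw [show (⟨j0.val + a.val, by omega⟩ : Fin k) = j0 from Fin.ext (by show j0.val + a.val = j0.val; omega),
        show (⟨j0.val + b.val, by omega⟩ : Fin k) = j1 from Fin.ext (by show j0.val + b.val = j1.val; omega)]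
    · rw [hf1 a (by omega), hf1 b (by omega), (hs _ _ (by simp; omega) (by simp; omega) (by simp; omega)).2]
      exact (hW _ (by simp; omega) (by simp; omega)).ge
    · rw [fs a g3.1, fs1 b g3.2]
      have hpn : T.a (v p) (v pn) ≠ 0 := hc p pn rfl
      have hne' : v p ≠ v pn := v.injective.ne (Fin.ne_of_val_ne (by simp [pn]))
      rw [← hW p hjp le_rfl]
      exact max_le (w_le T hne' hpn).1 (w_le T hne' hpn).2
    · rw [fs a g4.1, hf2 b g4.2, ← hW p hjp le_rfl]
      exact max_le (w_le T (hc0 p) e1).1 (w_le T (hc0 p) e1).2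
    · exact T.offDiag_nonneg _ _ hne
  have hLnn : ∀ a b, 0 ≤ L a b := by
    intro a b
    have hWp := T.w_pos (v j1)
    have hAp : 0 ≤ T.a (v j0) (v j1) := T.offDiag_nonneg _ _ (v.injective.ne (Fin.ne_of_val_ne (by omega)))
    have hv : ∀ i j, 0 ≤ val i j := fun i j => by
      simp only [val]; split_ifs <;> first | exact hAp | exact hWp.le | exact le_max_of_le_left hWp.le | exact le_rfl
    simp only [L]; split_ifs <;> exact hv _ _
  have hxpos : ∀ a, 0 < x a := fun a => by simp only [x]; split_ifs <;> linarith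
  have hx2 : ∀ a : Fin (s + 3), 1 ≤ a.val → a.val ≤ s → x a = 2 := fun a g g' => by
    simp only [x]; rw [if_neg (by omega), if_neg (by omega)]
  have hx1 : ∀ a : Fin (s + 3), s + 1 ≤ a.val → x a = 1 := fun a g => by
    simp only [x]; rw [if_neg (by omega), if_pos g]
  have hw1 : ∀ a : Fin (s + 3), 1 ≤ a.val → a.val ≤ s → T.w (f a) = W := fun a g g' => by
    rw [hf1 a (by omega)]; exact hW _ (by simp; omega) (by simp; omega)
  have L01 : ∀ a b : Fin (s + 3), a.val = 0 → b.val = 1 → L a b = T.a (v j0) (v j1) ∧ L b a = T.a (v j0) (v j1) := by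
    intro a b ga gb
    have hv : val a.val b.val = T.a (v j0) (v j1) := by simp only [val]; rw [if_pos ⟨ga, gb⟩]
    simp only [L]; rw [if_pos (by omega), if_neg (by omega)]; exact ⟨hv, hv⟩
  have Lmid : ∀ a b : Fin (s + 3), b.val = a.val + 1 → 1 ≤ a.val → b.val ≤ s → L a b = W ∧ L b a = W := by
    intro a b g g' g''
    have hv : val a.val b.val = W := by simp only [val]; rw [if_neg (by omega), if_pos ⟨g, g', g''⟩]
    simp only [L]; rw [if_pos (by omega), if_neg (by omega)]; exact ⟨hv, hv⟩
  have Lp : ∀ a b : Fin (s + 3), a.val = s → b.val = s + 1 → L a b = max W (T.w (v pn)) ∧ L b a = max W (T.w (v pn)) := by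
    intro a b g g'
    have hv : val a.val b.val = max W (T.w (v pn)) := by
      simp only [val]; rw [if_neg (by omega), if_neg (by omega), if_pos ⟨g, g'⟩]
    simp only [L]; rw [if_pos (by omega), if_neg (by omega)]; exact ⟨hv, hv⟩
  have Lc : ∀ a b : Fin (s + 3), a.val = s → b.val = s + 2 → L a b = max W (T.w c) ∧ L b a = max W (T.w c) := by
    intro a b g g'
    have hv : val a.val b.val = max W (T.w c) := by
      simp only [val]; rw [if_neg (by omega), if_neg (by omega), if_neg (by omega), if_pos ⟨g, g'⟩]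
    simp only [L]; rw [if_pos (by omega), if_neg (by omega)]; exact ⟨hv, hv⟩
  let A0 : Fin (s + 3) := ⟨0, by omega⟩
  let A1 : Fin (s + 3) := ⟨1, by omega⟩
  let As : Fin (s + 3) := ⟨s, by omega⟩
  let Al : Fin (s + 3) := ⟨s + 1, by omega⟩
  let Ac : Fin (s + 3) := ⟨s + 2, by omega⟩
  -- value coming from the left neighbour of a segment vertex
  have hleft : ∀ a : Fin (s + 3), 1 ≤ a.val → a.val ≤ s →
      L a ⟨a.val - 1, by omega⟩ * x ⟨a.val - 1, by omega⟩ = 2 * W := by
    intro a g g'
    by_cases g1 : a.val = 1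
    · rw [(L01 ⟨a.val - 1, by omega⟩ a (by simp; omega) g1).2, show x ⟨a.val - 1, by omega⟩ = P from if_pos (by simp; omega), hB]
      linear_combination W * hPQ
    · rw [(Lmid ⟨a.val - 1, by omega⟩ a (by simp; omega) (by simp; omega) g').2,
        hx2 ⟨a.val - 1, by omega⟩ (by simp; omega) (by simp; omega)]
      ring
  obtain ⟨hk, hex, hrow, hm⟩ := null_full T ⟨f, hinj⟩ (fun a => hall _) (by omega) L
    (fun a b hab => by
      have hv : a.val ≠ b.val := fun h => hab (Fin.ext h)
      simp only [L, Function.Embedding.coeFn_mk]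
      split_ifs with g
      · exact hval a b g
      · rw [symm' T]; exact hval b a (by omega)) x hxpos fun a => by
    simp only [Function.Embedding.coeFn_mk]
    have key : ∀ N : Finset (Fin (s + 3)), a ∉ N →
        ∑ b ∈ N, L a b * x b ≤ ∑ b ∈ univ.erase a, L a b * x b := fun N hN =>
      sum_le_sum_of_subset_of_nonneg (fun b hb => mem_erase.mpr ⟨fun e => hN (e ▸ hb), mem_univ _⟩)
        fun b _ _ => mul_nonneg (hLnn a b) (hxpos b).le
    have := a.2
    by_cases c0 : a.val = 0
    · refine le_trans ?_ (key {A1} (by simp [A1, Fin.ext_iff, c0]))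
      rw [sum_singleton, (L01 a A1 c0 rfl).1, hx2 A1 le_rfl (by simp [A1]; omega),
        show x a = P from if_pos c0, show a = (⟨0, by omega⟩ : Fin (s + 3)) from Fin.ext c0, fa0, hA]
      linarith
    by_cases c1 : a.val = s + 1
    · refine le_trans ?_ (key {As} (by simp [As, Fin.ext_iff]; omega))
      rw [sum_singleton, (Lp As a rfl c1).2, hx2 As hs1 le_rfl, hx1 a (by omega), fs1 a c1]
      have := le_max_right W (T.w (v pn)); linarith
    by_cases c2 : a.val = s + 2
    · refine le_trans ?_ (key {As} (by simp [As, Fin.ext_iff]; omega))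
      rw [sum_singleton, (Lc As a rfl c2).2, hx2 As hs1 le_rfl, hx1 a (by omega), hf2 a c2]
      have := le_max_right W (T.w c); linarith
    rw [hw1 a (by omega) (by omega), hx2 a (by omega) (by omega)]
    let Pr : Fin (s + 3) := ⟨a.val - 1, by omega⟩
    by_cases c3 : a.val = s
    · refine le_trans ?_ (key {Pr, Al, Ac} (by simp [Pr, Al, Ac, Fin.ext_iff]; omega))
      rw [sum_insert (by simp [Pr, Al, Ac, Fin.ext_iff]; omega), sum_pair (by simp [Al, Ac, Fin.ext_iff]),
        hleft a (by omega) (by omega), (Lp a Al c3 rfl).1, (Lc a Ac c3 rfl).1, hx1 Al le_rfl, hx1 Ac (by simp [Ac])]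
      have := le_max_left W (T.w (v pn)); have := le_max_left W (T.w c)
      linarith
    · let Nx : Fin (s + 3) := ⟨a.val + 1, by omega⟩
      refine le_trans ?_ (key {Pr, Nx} (by simp [Pr, Nx, Fin.ext_iff]; omega))
      rw [sum_pair (by simp [Pr, Nx, Fin.ext_iff]), hleft a (by omega) (by omega),
        (Lmid a Nx rfl (by omega) (by simp [Nx]; omega)).1, hx2 Nx (by simp [Nx]) (by simp [Nx]; omega)]
      linarith
  simp only [Function.Embedding.coeFn_mk] at hex hrow hm
  -- the weights of the leaves
  have hlow : ∀ (l : Fin (s + 3)) (M : ℤ), (L l As = M) → (∀ b, b ≠ l → b ≠ As → L l b = 0) → l ≠ As →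
      x l = 1 → 2 * T.w (f l) = 2 * M := by
    intro l M hM hz hne hxl
    have h := hrow l
    rw [sum_eq_single As (fun b hb hb' => by rw [hz b (ne_of_mem_erase hb) hb', zero_mul])
      (fun h => absurd (mem_erase.mpr ⟨hne.symm, mem_univ _⟩) h), hM, hx2 As hs1 le_rfl, hxl] at h
    linarith
  have hpnW : W ≤ T.w (v pn) := by
    have h := hlow Al _ (Lp As Al rfl rfl).2 (fun b hb hb' => by
      have g1 : b.val ≠ s + 1 := fun g => hb (Fin.ext g)
      have g2 : b.val ≠ s := fun g => hb' (Fin.ext g)
      simp only [L, val, Al]; split_ifs <;> first | rfl | omega) (by simp [Al, As, Fin.ext_iff]) (hx1 Al le_rfl)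
    rw [fs1 Al rfl] at h
    have := le_max_left W (T.w (v pn)); linarith
  have hcW : W ≤ T.w c := by
    have h := hlow Ac _ (Lc As Ac rfl rfl).2 (fun b hb hb' => by
      have g1 : b.val ≠ s + 2 := fun g => hb (Fin.ext g)
      have g2 : b.val ≠ s := fun g => hb' (Fin.ext g)
      simp only [L, val, Ac]; split_ifs <;> first | rfl | omega) (by simp [Ac, As, Fin.ext_iff]) (hx1 Ac (by simp [Ac]))
    rw [hf2 Ac rfl] at h
    have := le_max_left W (T.w c); linarith
  have hsum2 : max W (T.w (v pn)) + max W (T.w c) = 2 * W := by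
    have hns : ∀ b : Fin (s + 3), b ≠ As → b ≠ Al → b ≠ Ac → b.val + 1 ≠ s → L As b = 0 := fun b h1 h2 h3 h4 => by
      have g1 : b.val ≠ s := fun g => h1 (Fin.ext g)
      have g2 : b.val ≠ s + 1 := fun g => h2 (Fin.ext g)
      have g3 : b.val ≠ s + 2 := fun g => h3 (Fin.ext g)
      simp only [L, val, As]; split_ifs <;> first | rfl | omega
    let Pr : Fin (s + 3) := ⟨s - 1, by omega⟩
    have h := hrow As
    rw [← sum_subset (s₁ := {Pr, Al, Ac}) (fun b hb => by
        simp only [mem_insert, mem_singleton] at hb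
        rcases hb with rfl | rfl | rfl <;> simp [Pr, Al, Ac, As, Fin.ext_iff]; omega)
      (fun b hb hb' => by
        simp only [mem_insert, mem_singleton, not_or] at hb'
        rw [hns b (ne_of_mem_erase hb) hb'.2.1 hb'.2.2 (fun g => hb'.1 (Fin.ext (by simp [Pr]; omega))), zero_mul]),
      sum_insert (by simp [Pr, Al, Ac, Fin.ext_iff]; omega), sum_pair (by simp [Al, Ac, Fin.ext_iff]),
      show L As Pr * x Pr = 2 * W from hleft As hs1 le_rfl, (Lp As Al rfl rfl).1, (Lc As Ac rfl rfl).1,
      hx1 Al le_rfl, hx1 Ac (by simp [Ac]), hx2 As hs1 le_rfl, hw1 As hs1 le_rfl] at h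
    linarith
  have hpn : T.w (v pn) = W := by
    have := le_max_left W (T.w (v pn)); have := le_max_right W (T.w (v pn)); have := le_max_left W (T.w c); linarith
  have hcw : T.w c = W := by
    have := le_max_left W (T.w c); have := le_max_right W (T.w c); have := le_max_left W (T.w (v pn)); linarith
  subst hk
  have hwall : ∀ a : Fin (s + 3), a.val ≠ 0 → T.w (f a) = W := fun a g => by
    have := a.2
    by_cases g1 : a.val ≤ s
    · exact hw1 a (by omega) g1
    by_cases g2 : a.val = s + 1
    · rw [fs1 a g2]; exact hpn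
    · rw [hf2 a (by omega)]; exact hcw
  have hxA0 : x A0 = P := if_pos rfl
  have hedge : ∀ i j : Fin (s + 3), i.val < j.val →
      T.a (f i) (f j) = if dEdge (s + 3) i.val j.val then (if i.val = 0 then T.a (v j0) (v j1) else W) else 0 := by
    intro i j hij
    rw [hex i j (Fin.ne_of_val_ne (by omega))]
    simp only [L, if_pos hij, val, hpn, hcw, max_self, dEdge]
    have := j.2
    split_ifs <;> first | rfl | omega
  have hPc : P = 1 ∨ P = 2 := by
    have : P ≤ 2 := by nlinarith
    omega
  rcases hPc with rfl | rfl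
  · obtain rfl : Q = 2 := by linarith
    refine Or.inr (Or.inr (Or.inr (Or.inr (Or.inl ?_))))
    have hw0 : T.w (v j0) = 2 * W := by linarith
    refine fits_of_embedding ⟨f, hinj⟩ (T.m (f A0)) W (fun i => ?_) (fun i => ?_) (fun i j hij => ?_)
    · have h := hm i A0
      rw [hxA0, mul_one] at h
      simp only [Function.Embedding.coeFn_mk]
      rw [h, mul_comm]
      congr 1
      simp only [x, dUpM]
      have := i.2
      split_ifs <;> first | rfl | omega
    · simp only [Function.Embedding.coeFn_mk, dUpW]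
      split_ifs with g
      · rw [show i = A0 from Fin.ext g, fa0, hw0]
      · rw [hwall i g, one_mul]
    · simp only [Function.Embedding.coeFn_mk]
      rw [hedge i j hij]
      simp only [dUpA]
      split_ifs <;> linarith
  · obtain rfl : Q = 1 := by linarith
    refine Or.inr (Or.inr (Or.inr (Or.inr (Or.inr (Or.inl ?_)))))
    have hW2 : W = 2 * T.w (v j0) := by linarith
    refine fits_of_embedding ⟨f, hinj⟩ (T.m (f Al)) (T.w (v j0)) (fun i => ?_) (fun i => ?_) (fun i j hij => ?_)
    · have h := hm i Al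
      rw [hx1 Al le_rfl, mul_one] at h
      simp only [Function.Embedding.coeFn_mk]
      rw [h, mul_comm]
      congr 1
      simp only [x, dDownM]
      have := i.2
      split_ifs <;> first | rfl | omega
    · simp only [Function.Embedding.coeFn_mk, dDownW]
      split_ifs with g
      · rw [show i = A0 from Fin.ext g, fa0, one_mul]
      · rw [hwall i g, hW2]
    · simp only [Function.Embedding.coeFn_mk]
      rw [hedge i j hij]
      simp only [dDownA]
      split_ifs <;> linarith

end Cases

section Chains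

variable {T}

/-- A chain traversed backwards. -/
def rev (v : Fin k ↪ Fin n) : Fin k ↪ Fin n := Fin.revPerm.toEmbedding.trans v

lemma rev_apply (v : Fin k ↪ Fin n) (i : Fin k) : rev v i = v i.rev := rfl

lemma rev_rev (v : Fin k ↪ Fin n) (i : Fin k) : rev v i.rev = v i := by rw [rev_apply, Fin.rev_rev]

lemma isChain_rev {v : Fin k ↪ Fin n} (hc : IsChain T v) : IsChain T (rev v) := by
  intro j j' h
  rw [rev_apply, rev_apply, symm' T]
  exact hc _ _ (by simp [Fin.val_rev]; omega)

/-- A stretch of a chain. -/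
def seg (v : Fin k ↪ Fin n) (a L : ℕ) (h : a + L ≤ k) : Fin L ↪ Fin n :=
  ⟨fun i => v ⟨a + i.val, by omega⟩, fun i j e => Fin.ext (by
    have := congrArg Fin.val (v.injective e); simp at this; omega)⟩

lemma seg_apply (v : Fin k ↪ Fin n) (a L : ℕ) (h : a + L ≤ k) (i : Fin L) :
    seg v a L h i = v ⟨a + i.val, by omega⟩ := rfl

lemma isChain_seg {v : Fin k ↪ Fin n} (hc : IsChain T v) (a L : ℕ) (h : a + L ≤ k) :
    IsChain T (seg v a L h) := fun _ _ e => hc _ _ (by simp; omega)

/-- A chain lengthened at its first index. -/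
def cons (c : Fin n) (v : Fin k ↪ Fin n) (h : ∀ a, v a ≠ c) : Fin (k + 1) ↪ Fin n :=
  ⟨Fin.cons c v, Fin.cons_injective_iff.mpr ⟨fun ⟨a, ha⟩ => h a ha, v.injective⟩⟩

lemma cons_zero (c : Fin n) (v : Fin k ↪ Fin n) (h : ∀ a, v a ≠ c) : cons c v h 0 = c := rfl

lemma cons_succ (c : Fin n) (v : Fin k ↪ Fin n) (h : ∀ a, v a ≠ c) (i : Fin k) :
    cons c v h i.succ = v i := rfl

lemma isChain_cons {c : Fin n} {v : Fin k ↪ Fin n} {h : ∀ a, v a ≠ c} (hc : IsChain T v)
    (h0 : ∀ i : Fin k, i.val = 0 → T.a c (v i) ≠ 0) : IsChain T (cons c v h) := by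
  intro j j' e
  obtain ⟨i', rfl⟩ : ∃ i : Fin k, i.succ = j' :=
    ⟨⟨j'.val - 1, by have := j'.2; omega⟩, Fin.ext (by simp; omega)⟩
  rw [cons_succ]
  by_cases hj : j.val = 0
  · rw [show j = 0 from Fin.ext hj, cons_zero]
    exact h0 i' (by simp at e; omega)
  · obtain ⟨i, rfl⟩ : ∃ i : Fin k, i.succ = j :=
      ⟨⟨j.val - 1, by have := j.2; omega⟩, Fin.ext (by simp; omega)⟩
    rw [cons_succ]
    exact hc i i' (by simp at e ⊢; omega)

lemma not_simple_of_double {i j : Fin n} (hd : Double T i j) (hs : Simple T i j) : False := by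
  obtain ⟨P, Q, hPQ, -, -, hA, hB⟩ := hd
  obtain ⟨h1, h2⟩ := hs
  rw [h1] at hB
  have hw := T.w_pos i
  have hP : P = 1 := mul_right_cancel₀ hw.ne' (by rw [one_mul, ← hA, h2])
  have hQ : Q = 1 := mul_right_cancel₀ hw.ne' (by rw [one_mul, ← hB, h2])
  rw [hP, hQ] at hPQ
  norm_num at hPQ

variable (T)
variable (hall : ∀ i, T.IsMinusTwo i)
include hall

/-- On an arm without branches and with simple edges, the multiplicities grow linearly. -/
lemma arm (v : Fin k ↪ Fin n) (p z : Fin k) (hz0 : z.val = 0)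
    (hs : ∀ a b : Fin k, b.val ≤ p.val → b.val = a.val + 1 → Simple T (v a) (v b))
    (hz : ∀ i : Fin k, i.val < p.val → ∀ x, x ≠ v i →
      (∀ j : Fin k, j.val = i.val + 1 ∨ i.val = j.val + 1 → v j ≠ x) → T.a (v i) x = 0) :
    ∀ t : ℕ, ∀ i : Fin k, i.val = t → t ≤ p.val → T.m (v i) = (t + 1) * T.m (v z) := by
  intro t
  induction t using Nat.strong_induction_on with
  | _ t ih =>
    intro i hi ht
    have hp := p.2
    match t with
    | 0 => rw [show i = z from Fin.ext (by omega)]; simp
    | 1 =>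
      have h := row_exact1 T (hall (v z)) (p := v i) (v.injective.ne (Fin.ne_of_val_ne (by omega)))
        fun x h1 h2 => hz z (by omega) x h1 fun j hj e => by
          rw [show j = i from Fin.ext (by omega)] at e
          exact h2 e.symm
      rw [(hs z i (by omega) (by omega)).2] at h
      have := mul_left_cancel₀ (T.w_pos (v z)).ne' (h.trans (by ring : _ = T.w (v z) * (2 * T.m (v z))))
      rw [this]; norm_num
    | s + 2 =>
      let b : Fin k := ⟨s + 1, by omega⟩
      let a : Fin k := ⟨s, by omega⟩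
      have hb : b.val = s + 1 := rfl
      have ha : a.val = s := rfl
      have iha := ih s (by omega) a rfl (by omega)
      have ihb := ih (s + 1) (by omega) b rfl (by omega)
      have h := row_exact2 T (hall (v b)) (p := v a) (q := v i) (v.injective.ne (Fin.ne_of_val_ne (by omega)))
        (v.injective.ne (Fin.ne_of_val_ne (by omega))) (v.injective.ne (Fin.ne_of_val_ne (by omega)))
        fun x h1 h2 h3 => hz b (by omega) x h1 fun j hj e => by
          rcases hj with g | g
          · rw [show j = i from Fin.ext (by omega)] at e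
            exact h3 e.symm
          · rw [show j = a from Fin.ext (by omega)] at e
            exact h2 e.symm
      have sab := hs a b (by omega) (by omega)
      rw [symm' T (v b) (v a), sab.2, (hs b i (by omega) (by omega)).2, sab.1] at h
      have h' := mul_left_cancel₀ (T.w_pos (v a)).ne' (show T.w (v a) * (T.m (v a) + T.m (v i)) =
        T.w (v a) * (2 * T.m (v b)) by linear_combination h)
      rw [iha, ihb] at h'
      push_cast at h' ⊢
      linear_combination h'

/-- A branch in a chain with only simple edges: completed `E7` or `E8`. -/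
lemma e78_case (v : Fin k ↪ Fin n) (hn : n = k + 1) (c : Fin n)
    (hc0 : ∀ a, v a ≠ c) (p : Fin k) (hp : 0 < p.val) (hp' : p.val + 1 < k)
    (hcov : ∀ x, x ≠ c → ∃ a, v a = x)
    (hzc : ∀ a, a ≠ p → T.a (v a) c = 0)
    (hfar : ∀ j l : Fin k, j.val + 1 < l.val → T.a (v j) (v l) = 0)
    (hs : ∀ a b : Fin k, b.val = a.val + 1 → Simple T (v a) (v b))
    (hpc : Simple T (v p) c) : Affine T := by
  have hrow : ∀ i : Fin k, i ≠ p → ∀ x, x ≠ v i →
      (∀ j : Fin k, j.val = i.val + 1 ∨ i.val = j.val + 1 → v j ≠ x) → T.a (v i) x = 0 := by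
    intro i hi x hx hj
    by_cases hxc : x = c
    · rw [hxc]; exact hzc i hi
    obtain ⟨q, rfl⟩ := hcov x hxc
    have hqi : q.val ≠ i.val := fun e => hx (congrArg v (Fin.ext e))
    have := mt (hj q) (not_not.mpr rfl)
    by_cases g : i.val < q.val
    · exact hfar i q (by omega)
    · rw [symm' T]; exact hfar q i (by omega)
  let z : Fin k := ⟨0, by omega⟩
  let e : Fin k := ⟨k - 1, by omega⟩
  have hA := arm T hall v p z rfl (fun a b _ g => hs a b g) fun i hi => hrow i (Fin.ne_of_val_ne (by omega))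
  have hB := arm T hall (rev v) p.rev z rfl
    (fun a b _ g => by rw [rev_apply, rev_apply]; exact (hs _ _ (by simp [Fin.val_rev]; omega)).symm)
    fun i hi x hx hj => by
      rw [rev_apply] at hx ⊢
      refine hrow i.rev (Fin.ne_of_val_ne (by simp [Fin.val_rev] at hi ⊢; omega)) x hx fun j g => ?_
      rw [← rev_rev v j]
      exact hj j.rev (by simp [Fin.val_rev] at g ⊢; omega)
  have hze : rev v z = v e := congrArg v (Fin.ext (by simp [z, e, Fin.val_rev]))
  rw [hze] at hB
  set t := T.m (v z) with ht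
  set u := T.m (v e) with hu
  have mA : ∀ i : Fin k, i.val ≤ p.val → T.m (v i) = ((i.val : ℤ) + 1) * t := fun i g => hA i.val i rfl g
  have mB : ∀ i : Fin k, p.val ≤ i.val → T.m (v i) = ((k : ℤ) - i.val) * u := fun i g => by
    have := hB i.rev.val i.rev rfl (by simp [Fin.val_rev]; omega)
    rw [rev_rev] at this
    rw [this]
    congr 1
    simp only [Fin.val_rev]
    omega
  have hcp : ∀ j : Fin k, v j ≠ c := hc0
  have hc := row_exact1 T (hall c) (hc0 p).symm fun x h1 h2 => by
    obtain ⟨a, rfl⟩ := hcov x h1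
    rw [symm' T]
    exact hzc a fun g => h2 (congrArg v g)
  rw [symm' T, hpc.2, hpc.1] at hc
  have hc' : T.m (v p) = 2 * T.m c :=
    mul_left_cancel₀ (T.w_pos (v p)).ne' (by linear_combination hc)
  let pl : Fin k := ⟨p.val - 1, by omega⟩
  let pr : Fin k := ⟨p.val + 1, hp'⟩
  have hl : pl.val + 1 = p.val := by simp [pl]; omega
  have hr : pr.val = p.val + 1 := rfl
  have hP := row_exact T (hall (v p)) {v pl, v pr, c} (by
      simp only [mem_insert, mem_singleton, not_or]
      exact ⟨v.injective.ne (Fin.ne_of_val_ne (by omega)), v.injective.ne (Fin.ne_of_val_ne (by omega)), hc0 p⟩)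
    fun x h1 h2 => by
      simp only [mem_insert, mem_singleton, not_or] at h2
      obtain ⟨q, rfl⟩ := hcov x h2.2.2
      have g0 : q.val ≠ p.val := fun g => h1 (congrArg v (Fin.ext g))
      have g1 : q.val ≠ pl.val := fun g => h2.1 (congrArg v (Fin.ext g))
      have g2 : q.val ≠ pr.val := fun g => h2.2.1 (congrArg v (Fin.ext g))
      by_cases g : p.val < q.val
      · exact hfar p q (by omega)
      · rw [symm' T]; exact hfar q p (by omega)
  have s1 := hs pl p (by omega)
  rw [sum_insert (by simp [hc0, v.injective.eq_iff, Fin.ext_iff]; omega), sum_pair (hc0 pr),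
    symm' T (v p) (v pl), s1.2, ← s1.1, (hs p pr hr).2, hpc.2] at hP
  have hP' : T.m (v pl) + T.m (v pr) + T.m c = 2 * T.m (v p) :=
    mul_left_cancel₀ (T.w_pos (v p)).ne' (by linear_combination hP)
  rw [mA pl (by omega), mB pr (by omega), mA p le_rfl] at hP'
  have e1 := mA p le_rfl
  have e2 := mB p le_rfl
  have hplz : (pl.val : ℤ) + 1 = p.val := by exact_mod_cast hl
  have hprz : (pr.val : ℤ) = p.val + 1 := by exact_mod_cast hr
  rw [hplz, hprz] at hP'
  obtain ⟨P, hPdef⟩ : ∃ P : ℤ, P = p.val + 1 := ⟨_, rfl⟩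
  obtain ⟨Q, hQdef⟩ : ∃ Q : ℤ, Q = (k : ℤ) - p.val := ⟨_, rfl⟩
  rw [← hPdef] at e1
  rw [← hQdef] at e2
  have hu' : t + u = T.m c := by subst hPdef; subst hQdef; linarith
  have hmc := T.m_pos c
  have key : (P - 2) * (Q - 2) = 4 := by
    have h3 : (P * Q) * (t + u) = 2 * T.m c * (P + Q) := by
      rw [hc'] at e1 e2; linear_combination -(Q * e1) - P * e2
    rw [hu'] at h3
    have := mul_left_cancel₀ hmc.ne' (show T.m c * (P * Q) = T.m c * (2 * (P + Q)) by linear_combination h3)
    linarith
  have hP2 : 2 ≤ P := by omega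
  have hQ2 : 2 ≤ Q := by omega
  have hP6 : P ≤ 6 := by
    by_contra g
    rcases lt_or_eq_of_le hQ2 with g' | g'
    · nlinarith
    · rw [← g'] at key; simp at key
  have hw : ∀ i : Fin k, T.w (v i) = T.w (v z) := fun i =>
    simple_run T z i (Nat.zero_le _) fun a b _ _ g => hs a b g
  let f : Fin n ↪ Fin n := ⟨fun i => if h : i.val < k then v ⟨i.val, h⟩ else c, fun a b g => by
    have := a.2
    have := b.2
    simp only at g
    split_ifs at g with h1 h2 h2
    · exact Fin.ext (by simpa using congrArg Fin.val (v.injective g))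
    · exact absurd g (hc0 _)
    · exact absurd g.symm (hc0 _)
    · exact Fin.ext (by omega)⟩
  have hf : ∀ (i : Fin n) (h : i.val < k), f i = v ⟨i.val, h⟩ := fun i h => dif_pos h
  have hfc : ∀ i : Fin n, i.val = k → f i = c := fun i h => dif_neg (by omega)
  have fin : ∀ (M : Fin n → ℤ) (m : ℤ), (∀ i, T.m (f i) = M i * m) →
      Fits T M (fun _ => 1) (fun i j => if (j.val = i.val + 1 ∧ j.val + 1 ≤ k) ∨ (i.val = p.val ∧ j.val = k) then 1 else 0) := by
    intro M m hM
    refine fits_of_embedding f m (T.w (v z)) hM (fun i => ?_) fun i j hij => ?_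
    · rw [one_mul]
      by_cases h : i.val < k
      · rw [hf i h]; exact hw _
      · rw [hfc i (by omega), hpc.1]; exact hw p
    have := j.2
    rw [hf i (by omega)]
    by_cases h : j.val < k
    · rw [hf j h]
      split_ifs with g
      · rw [one_mul, (hs _ _ (by simp; omega)).2]; exact hw _
      · rw [zero_mul]; exact hfar _ _ (by simp; omega)
    · rw [hfc j (by omega)]
      split_ifs with g
      · rw [one_mul, show (⟨i.val, by omega⟩ : Fin k) = p from Fin.ext (by simp; omega), hpc.2]; exact hw p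
      · rw [zero_mul]; exact hzc _ (Fin.ne_of_val_ne (by simp; omega))
  interval_cases P
  · omega
  · -- arms 3 and 6
    have hp2 : p.val = 2 := by omega
    have hk8 : k = 8 := by omega
    subst hk8
    subst hn
    refine Or.inr (Or.inr (Or.inr (Or.inr (Or.inr (Or.inr (Or.inr (Or.inr (Or.inr (Or.inr (Or.inr ⟨rfl, ?_⟩))))))))))
    let f' : Fin 9 ↪ Fin 9 :=
      ⟨fun i => if h : i.val < 8 then v (⟨i.val, h⟩ : Fin 8).rev else c, fun a b g => by
        have := a.2
        have := b.2
        simp only at g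
        split_ifs at g with h1 h2 h2
        · exact Fin.ext (by simpa using congrArg Fin.val (Fin.rev_injective (v.injective g)))
        · exact absurd g (hc0 _)
        · exact absurd g.symm (hc0 _)
        · exact Fin.ext (by omega)⟩
    have hf' : ∀ (i : Fin 9) (h : i.val < 8), f' i = v (⟨i.val, h⟩ : Fin 8).rev := fun i h => dif_pos h
    have hfc' : ∀ i : Fin 9, i.val = 8 → f' i = c := fun i h => dif_neg (by omega)
    have hk : ((8 : ℕ) : ℤ) - p.val = 6 := by omega
    have htu : t = 2 * u := by rw [hc'] at e1 e2; linarith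
    have hmc' : T.m c = 3 * u := by linarith
    refine fits_of_embedding f' u (T.w (v z)) (fun i => ?_) (fun i => ?_) fun i j hij => ?_
    · have := i.2
      by_cases h : i.val < 8
      · rw [hf' i h]
        by_cases g : i.val ≤ 5
        · rw [mB _ (by simp [Fin.val_rev]; omega)]
          congr 1
          simp only [Fin.val_rev, e8M]
          interval_cases i.val <;> rfl
        · rw [mA _ (by simp [Fin.val_rev]; omega), htu]
          simp only [Fin.val_rev, e8M]
          interval_cases i.val <;> norm_num <;> ring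
      · rw [hfc' i (by omega), hmc']
        congr 1
        simp only [e8M, show i.val = 8 by omega]
        rfl
    · rw [one_mul]
      by_cases h : i.val < 8
      · rw [hf' i h]; exact hw _
      · rw [hfc' i (by omega), hpc.1]; exact hw p
    · have := j.2
      rw [hf' i (by omega)]
      simp only [e8A]
      by_cases h : j.val < 8
      · rw [hf' j h]
        split_ifs with g
        · rw [one_mul, symm' T, (hs _ _ (by simp [Fin.val_rev]; omega)).2]; exact hw _
        · rw [zero_mul, symm' T]; exact hfar _ _ (by simp [Fin.val_rev]; omega)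
      · rw [hfc' j (by omega)]
        split_ifs with g
        · rw [one_mul, show (⟨i.val, by omega⟩ : Fin 8).rev = p from Fin.ext (by simp [Fin.val_rev]; omega),
            hpc.2]
          exact hw p
        · rw [zero_mul]; exact hzc _ (Fin.ne_of_val_ne (by simp [Fin.val_rev]; omega))
  · -- two arms 4
    have hp2 : p.val = 3 := by omega
    have hk7 : k = 7 := by omega
    subst hk7
    subst hn
    refine Or.inr (Or.inr (Or.inr (Or.inr (Or.inr (Or.inr (Or.inr (Or.inr (Or.inr (Or.inr (Or.inl ⟨rfl, ?_⟩))))))))))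
    have hk : ((7 : ℕ) : ℤ) - p.val = 4 := by omega
    have htu : u = t := by rw [hc'] at e1 e2; subst hQdef; rw [hk] at e2; linarith
    have hmc' : T.m c = 2 * t := by linarith
    have h := fin e7M t fun i => by
      have := i.2
      by_cases h : i.val < 7
      · rw [hf i h]
        by_cases g : i.val ≤ 3
        · rw [mA _ (by simp; omega)]
          congr 1
          simp only [e7M]
          interval_cases i.val <;> rfl
        · rw [mB _ (by simp; omega), htu]
          congr 1
          simp only [e7M]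
          interval_cases i.val <;> rfl
      · rw [hfc i (by omega), hmc']
        congr 1
        simp only [e7M, show i.val = 7 by omega]
        rfl
    convert h using 2
    simp only [hp2, Nat.succ_le_succ_iff, Nat.add_le_add_iff_right]
    rfl
  · -- arms 5 : no solution
    omega
  · -- arms 6 and 3
    have hp2 : p.val = 5 := by omega
    have hk8 : k = 8 := by omega
    subst hk8
    subst hn
    refine Or.inr (Or.inr (Or.inr (Or.inr (Or.inr (Or.inr (Or.inr (Or.inr (Or.inr (Or.inr (Or.inr ⟨rfl, ?_⟩))))))))))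
    have hk : ((8 : ℕ) : ℤ) - p.val = 3 := by omega
    have htu : u = 2 * t := by rw [hc'] at e1 e2; subst hQdef; rw [hk] at e2; linarith
    have hmc' : T.m c = 3 * t := by linarith
    have h := fin e8M t fun i => by
      have := i.2
      by_cases h : i.val < 8
      · rw [hf i h]
        by_cases g : i.val ≤ 5
        · rw [mA _ (by simp; omega)]
          congr 1
          simp only [e8M]
          interval_cases i.val <;> rfl
        · rw [mB _ (by simp; omega), htu]
          simp only [e8M]
          interval_cases i.val <;> norm_num <;> ring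
      · rw [hfc i (by omega), hmc']
        congr 1
        simp only [e8M, show i.val = 8 by omega]
        rfl
    convert h using 2
    simp only [hp2, Nat.succ_le_succ_iff, Nat.add_le_add_iff_right]
    rfl

/-- A chain through all indices whose first and last edges are double. -/
lemma two_case (v : Fin n ↪ Fin n) (hn : 4 ≤ n)
    (hfar : ∀ j l : Fin n, j.val + 1 < l.val → T.a (v j) (v l) = 0)
    (hs : ∀ a b : Fin n, 1 ≤ a.val → b.val + 2 ≤ n → b.val = a.val + 1 → Simple T (v a) (v b))
    (o0 o1 l0 l1 : Fin n) (h0 : o0.val = 0) (h1 : o1.val = 1) (hl : l0.val + 2 = n) (hl' : l1.val + 1 = n)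
    (P Q P' Q' : ℤ) (hPQ : P * Q = 2) (hP : 0 < P) (hQ : 0 < Q) (hPQ' : P' * Q' = 2) (hP' : 0 < P')
    (hQ' : 0 < Q') (hA : T.a (v o0) (v o1) = P * T.w (v o0)) (hB : T.a (v o0) (v o1) = Q * T.w (v o1))
    (hA' : T.a (v l0) (v l1) = P' * T.w (v l0)) (hB' : T.a (v l0) (v l1) = Q' * T.w (v l1))
    (hor : ¬ (P = 1 ∧ P' = 1)) : Affine T := by
  have hb : Function.Surjective v := (Finite.injective_iff_surjective).mp v.injective
  have hrow : ∀ i x, x ≠ v i →
      (∀ j : Fin n, j.val = i.val + 1 ∨ i.val = j.val + 1 → v j ≠ x) → T.a (v i) x = 0 := by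
    intro i x hx hj
    obtain ⟨q, rfl⟩ := hb x
    have hqi : q.val ≠ i.val := fun e => hx (congrArg v (Fin.ext e))
    have := mt (hj q) (not_not.mpr rfl)
    by_cases g : i.val < q.val
    · exact hfar i q (by omega)
    · rw [symm' T]; exact hfar q i (by omega)
  have hW : ∀ i : Fin n, 1 ≤ i.val → i.val + 2 ≤ n → T.w (v i) = T.w (v o1) := fun i g g' =>
    simple_run T o1 i (by omega) fun a b ga gb gab => hs a b (by omega) (by omega) gab
  -- the multiplicities
  have r0 := row_exact1 T (hall (v o0)) (p := v o1) (v.injective.ne (Fin.ne_of_val_ne (by omega)))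
    fun x g1 g2 => hrow o0 x g1 fun j hj e => by
      rw [show j = o1 from Fin.ext (by omega)] at e; exact g2 e.symm
  have rl := row_exact1 T (hall (v l1)) (p := v l0) (v.injective.ne (Fin.ne_of_val_ne (by omega)))
    fun x g1 g2 => hrow l1 x g1 fun j hj e => by
      rw [show j = l0 from Fin.ext (by omega)] at e; exact g2 e.symm
  rw [hA] at r0
  rw [symm' T, hB'] at rl
  have m0 : P * T.m (v o1) = 2 * T.m (v o0) :=
    mul_left_cancel₀ (T.w_pos (v o0)).ne' (by linear_combination r0)
  have ml : Q' * T.m (v l0) = 2 * T.m (v l1) :=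
    mul_left_cancel₀ (T.w_pos (v l1)).ne' (by linear_combination rl)
  have hmid : ∀ t : ℕ, ∀ i : Fin n, i.val = t → 1 ≤ t → t + 2 ≤ n → T.m (v i) = T.m (v o1) := by
    intro t
    induction t using Nat.strong_induction_on with
    | _ t ih =>
      intro i hi g1 g2
      match t with
      | 0 => omega
      | 1 => rw [show i = o1 from Fin.ext (by omega)]
      | s + 2 =>
        let b : Fin n := ⟨s + 1, by omega⟩
        let a : Fin n := ⟨s, by omega⟩
        have hbv : b.val = s + 1 := rfl
        have hav : a.val = s := rfl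
        have h := row_exact2 T (hall (v b)) (p := v a) (q := v i) (v.injective.ne (Fin.ne_of_val_ne (by omega)))
          (v.injective.ne (Fin.ne_of_val_ne (by omega))) (v.injective.ne (Fin.ne_of_val_ne (by omega)))
          fun x h1 h2 h3 => hrow b x h1 fun j hj e => by
            rcases hj with g | g
            · rw [show j = i from Fin.ext (by omega)] at e
              exact h3 e.symm
            · rw [show j = a from Fin.ext (by omega)] at e
              exact h2 e.symm
        have ihb := ih (s + 1) (by omega) b rfl (by omega) (by omega)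
        rw [(hs b i (by omega) (by omega) (by omega)).2, hW b (by omega) (by omega), ihb] at h
        refine mul_left_cancel₀ (T.w_pos (v o1)).ne' ?_
        rcases Nat.eq_zero_or_pos s with hs0 | hs0
        · rw [show a = o0 from Fin.ext (by omega), show b = o1 from Fin.ext (by omega), symm' T, hB] at h
          refine mul_left_cancel₀ (two_ne_zero (α := ℤ)) ?_
          linear_combination 2 * h + (Q * T.w (v o1)) * m0 - T.w (v o1) * T.m (v o1) * hPQ
        · have sab := hs a b (by omega) (by omega) (by omega)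
          rw [symm' T (v b) (v a), sab.2, hW a (by omega) (by omega), ih s (by omega) a rfl hs0 (by omega)] at h
          linear_combination h
  have hl0 : T.m (v l0) = T.m (v o1) := hmid l0.val l0 rfl (by omega) (by omega)
  have hwl0 : T.w (v l0) = T.w (v o1) := hW l0 (by omega) (by omega)
  rw [hl0] at ml
  rw [hwl0] at hA'
  -- the table entries
  have hedge : ∀ i j : Fin n, i.val < j.val → T.a (v i) (v j) = if j.val = i.val + 1 then
      (if i.val = 0 then Q else if j.val + 1 = n then P' else 1) * T.w (v o1) else 0 := by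
    intro i j hij
    split_ifs with g g0 gn
    · rw [show i = o0 from Fin.ext (by omega), show j = o1 from Fin.ext (by omega)]; exact hB
    · rw [show i = l0 from Fin.ext (by omega), show j = l1 from Fin.ext (by omega)]; exact hA'
    · rw [one_mul, (hs i j (by omega) (by omega) g).2]; exact hW i (by omega) (by omega)
    · exact hfar i j (by omega)
  have hm : ∀ i : Fin n, T.m (v i) = if i.val = 0 then T.m (v o0) else if i.val + 1 = n then T.m (v l1) else T.m (v o1) := by
    intro i
    have := i.2
    split_ifs with g g'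
    · rw [show i = o0 from Fin.ext (by omega)]
    · rw [show i = l1 from Fin.ext (by omega)]
    · exact hmid i.val i rfl (by omega) (by omega)
  have hw : ∀ i : Fin n, T.w (v i) = if i.val = 0 then T.w (v o0) else if i.val + 1 = n then T.w (v l1) else T.w (v o1) := by
    intro i
    have := i.2
    split_ifs with g g'
    · rw [show i = o0 from Fin.ext (by omega)]
    · rw [show i = l1 from Fin.ext (by omega)]
    · exact hW i (by omega) (by omega)
  rw [hA] at hB
  rw [hA'] at hB'
  have hPc : P = 1 ∨ P = 2 := by have : P ≤ 2 := by nlinarith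
                                 omega
  have hPc' : P' = 1 ∨ P' = 2 := by have : P' ≤ 2 := by nlinarith
                                    omega
  rcases hPc with rfl | rfl <;> rcases hPc' with rfl | rfl
  · exact absurd ⟨rfl, rfl⟩ hor
  · -- down, up
    obtain rfl : Q = 2 := by linarith
    obtain rfl : Q' = 1 := by linarith
    refine Or.inr (Or.inr (Or.inr (Or.inl ?_)))
    refine fits_of_embedding v (T.m (v o0)) (T.w (v o1)) (fun i => ?_) (fun i => ?_) fun i j hij => ?_
    · rw [hm i]; simp only [duM]; have := i.2; split_ifs <;> first | linarith | omega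
    · rw [hw i]; simp only [duW]; have := i.2; split_ifs <;> first | linarith | omega
    · rw [hedge i j hij]; simp only [duA]; split_ifs <;> first | linarith | omega
  · -- up, down
    obtain rfl : Q = 1 := by linarith
    obtain rfl : Q' = 2 := by linarith
    refine Or.inr (Or.inr (Or.inl ?_))
    refine fits_of_embedding v (T.m (v o0)) (T.w (v o0)) (fun i => ?_) (fun i => ?_) fun i j hij => ?_
    · rw [hm i]; split_ifs <;> first | linarith | omega
    · rw [hw i]; simp only [udW]; have := i.2; split_ifs <;> first | linarith | omega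
    · rw [hedge i j hij]; simp only [udA]; split_ifs <;> first | linarith | omega
  · -- up, up
    obtain rfl : Q = 1 := by linarith
    obtain rfl : Q' = 1 := by linarith
    refine Or.inr (Or.inl ?_)
    refine fits_of_embedding v (T.m (v l1)) (T.w (v o0)) (fun i => ?_) (fun i => ?_) fun i j hij => ?_
    · rw [hm i]; simp only [uuM]; have := i.2; split_ifs <;> first | linarith | omega
    · rw [hw i]; simp only [uuW]; have := i.2; split_ifs <;> first | linarith | omega
    · rw [hedge i j hij]; simp only [uuA]; split_ifs <;> first | linarith | omega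

/-- A chain through all indices with a single double edge: completed `F4`. -/
lemma one_case (v : Fin n ↪ Fin n)
    (hfar : ∀ j l : Fin n, j.val + 1 < l.val → T.a (v j) (v l) = 0)
    (e e' z lst : Fin n) (hz0 : z.val = 0) (hlst : lst.val + 1 = n) (he : e'.val = e.val + 1)
    (hd : Double T (v e) (v e'))
    (hs : ∀ a b : Fin n, b.val = a.val + 1 → a ≠ e → Simple T (v a) (v b)) (hle : n ≤ 2 * e.val + 2) :
    Affine T := by
  obtain ⟨P, Q, hPQ, hP, hQ, hA, hB⟩ := hd
  have he' := e'.2
  have hb : Function.Surjective v := (Finite.injective_iff_surjective).mp v.injective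
  have hrow : ∀ i x, x ≠ v i →
      (∀ j : Fin n, j.val = i.val + 1 ∨ i.val = j.val + 1 → v j ≠ x) → T.a (v i) x = 0 := by
    intro i x hx hj
    obtain ⟨q, rfl⟩ := hb x
    have hqi : q.val ≠ i.val := fun g => hx (congrArg v (Fin.ext g))
    have := mt (hj q) (not_not.mpr rfl)
    by_cases g : i.val < q.val
    · exact hfar i q (by omega)
    · rw [symm' T]; exact hfar q i (by omega)
  have hA' := arm T hall v e z hz0 (fun a b g g' => hs a b g' (Fin.ne_of_val_ne (by omega)))
    fun i _ => hrow i
  have hB' := arm T hall (rev v) e'.rev z hz0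
    (fun a b g g' => by
      rw [rev_apply, rev_apply]
      refine (hs _ _ (by simp [Fin.val_rev]; omega) (Fin.ne_of_val_ne ?_)).symm
      simp [Fin.val_rev] at g ⊢; omega)
    fun i _ x hx hj => by
      rw [rev_apply] at hx ⊢
      refine hrow i.rev x hx fun j g => ?_
      rw [← rev_rev v j]
      exact hj j.rev (by simp [Fin.val_rev] at g ⊢; omega)
  rw [show rev v z = v lst from congrArg v (Fin.ext (by simp [Fin.val_rev]; omega))] at hB'
  set t := T.m (v z) with ht
  set u := T.m (v lst) with hu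
  have mA : ∀ i : Fin n, i.val ≤ e.val → T.m (v i) = ((i.val : ℤ) + 1) * t := fun i g => hA' i.val i rfl g
  have mB : ∀ i : Fin n, e'.val ≤ i.val → T.m (v i) = ((n : ℤ) - i.val) * u := fun i g => by
    have := hB' i.rev.val i.rev rfl (by simp [Fin.val_rev]; omega)
    rw [rev_rev] at this
    rw [this]
    congr 1
    simp only [Fin.val_rev]
    omega
  have ee := v.injective.ne (Fin.ne_of_val_ne (show e.val ≠ e'.val by omega))
  -- the row of `e`
  have r1 : P * T.m (v e') = ((e.val : ℤ) + 2) * t := by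
    refine mul_left_cancel₀ (T.w_pos (v e)).ne' ?_
    by_cases g0 : e.val = 0
    · have h := row_exact1 T (hall (v e)) ee fun x g1 g2 => hrow e x g1 fun j hj g => by
        rw [show j = e' from Fin.ext (by omega)] at g; exact g2 g.symm
      rw [hA, mA e le_rfl, g0] at h
      rw [g0]
      push_cast at h ⊢
      linear_combination h
    · let l : Fin n := ⟨e.val - 1, by omega⟩
      have hl : l.val + 1 = e.val := by simp [l]; omega
      have hlz : (l.val : ℤ) + 1 = e.val := by exact_mod_cast hl
      have h := row_exact2 T (hall (v e)) (p := v l) (q := v e') (v.injective.ne (Fin.ne_of_val_ne (by omega))) ee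
        (v.injective.ne (Fin.ne_of_val_ne (by omega))) fun x g1 g2 g3 => hrow e x g1 fun j hj g => by
          rcases hj with q | q
          · rw [show j = e' from Fin.ext (by omega)] at g; exact g3 g.symm
          · rw [show j = l from Fin.ext (by omega)] at g; exact g2 g.symm
      have sl := hs l e (by omega) (Fin.ne_of_val_ne (by omega))
      rw [symm' T (v e) (v l), sl.2, ← sl.1, hA, mA e le_rfl, mA l (by omega), hlz] at h
      linear_combination h
  -- the row of `e'`
  have r2 : Q * T.m (v e) = ((n : ℤ) - e.val) * u := by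
    refine mul_left_cancel₀ (T.w_pos (v e')).ne' ?_
    have he'z : (e'.val : ℤ) = e.val + 1 := by exact_mod_cast he
    by_cases g0 : e'.val + 1 = n
    · have h := row_exact1 T (hall (v e')) ee.symm fun x g1 g2 => hrow e' x g1 fun j hj g => by
        rw [show j = e from Fin.ext (by omega)] at g; exact g2 g.symm
      have hnz : (e'.val : ℤ) + 1 = n := by exact_mod_cast g0
      rw [symm' T, hB, mB e' le_rfl, he'z] at h
      rw [he'z] at hnz
      linear_combination h + (T.w (v e') * u) * hnz.symm
    · let r : Fin n := ⟨e'.val + 1, by omega⟩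
      have hr : r.val = e'.val + 1 := rfl
      have hrz : (r.val : ℤ) = e'.val + 1 := by exact_mod_cast hr
      have h := row_exact2 T (hall (v e')) (p := v e) (q := v r) ee.symm (v.injective.ne (Fin.ne_of_val_ne (by omega)))
        (v.injective.ne (Fin.ne_of_val_ne (by omega))) fun x g1 g2 g3 => hrow e' x g1 fun j hj g => by
          rcases hj with q | q
          · rw [show j = r from Fin.ext (by omega)] at g; exact g3 g.symm
          · rw [show j = e from Fin.ext (by omega)] at g; exact g2 g.symm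
      rw [symm' T (v e') (v e), hB, (hs e' r hr (Fin.ne_of_val_ne (by omega))).2, mB e' le_rfl, mB r (by omega), hrz, he'z] at h
      linear_combination h
  rw [mB e' le_rfl] at r1
  rw [mA e le_rfl] at r2
  obtain ⟨L, hL⟩ : ∃ L : ℤ, L = e.val + 1 := ⟨_, rfl⟩
  obtain ⟨R, hR⟩ : ∃ R : ℤ, R = (n : ℤ) - e'.val := ⟨_, rfl⟩
  have hpos : 0 < t * u := mul_pos (T.m_pos _) (T.m_pos _)
  have key : (L - 1) * (R - 1) = 2 := by
    have e1 : P * (R * u) = (L + 1) * t := by rw [hR, hL]; linear_combination r1
    have e2 : Q * (L * t) = (R + 1) * u := by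
      rw [hR, hL]
      have : (e'.val : ℤ) = e.val + 1 := by exact_mod_cast he
      linear_combination r2 + u * this
    have := mul_left_cancel₀ hpos.ne' (show (t * u) * (2 * (R * L)) = (t * u) * ((L + 1) * (R + 1)) by
      linear_combination (Q * (L * t)) * e1 + ((L + 1) * t) * e2 - (R * u * L * t) * hPQ)
    linarith
  have hR1 : 1 ≤ R := by omega
  have hLR : R ≤ L := by omega
  have hR2 : 2 ≤ R := by
    by_contra g
    rw [show R = 1 by omega] at key
    simp at key
  have hR3 : R ≤ 2 := by
    by_contra g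
    nlinarith
  obtain rfl : R = 2 := le_antisymm hR3 hR2
  have he2 : e.val = 2 := by omega
  obtain rfl : n = 5 := by omega
  have he3 : e' = 3 := Fin.ext (by simp; omega)
  obtain rfl : e = 2 := Fin.ext he2
  subst he3
  have s01 := hs 0 1 (by simp) (by decide)
  have s12 := hs 1 2 (by simp) (by decide)
  have s34 := hs 3 4 (by simp) (by decide)
  have m0 := mA 0 (by simp)
  have m1 := mA 1 (by simp)
  have m2 := mA 2 le_rfl
  have m3 := mB 3 le_rfl
  have m4 := mB 4 (by simp)
  simp at m0 m1 m2 m3 m4 r1 r2 hA hB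
  norm_num at m0 m1 m2 m3 m4 r1 r2
  have hfits : ∀ (M W : Fin 5 → ℤ) (A : Fin 5 → Fin 5 → ℤ) (m w : ℤ), (∀ i, T.m (v i) = M i * m) →
      (∀ i, T.w (v i) = W i * w) → T.a (v 0) (v 1) = A 0 1 * w → T.a (v 1) (v 2) = A 1 2 * w →
      T.a (v 2) (v 3) = A 2 3 * w → T.a (v 3) (v 4) = A 3 4 * w →
      (∀ i j : Fin 5, i.val + 1 < j.val → A i j = 0) → Fits T M W A := by
    intro M W A m w h1 h2 a01 a12 a23 a34 hA0
    refine fits_of_embedding v m w h1 h2 fun i j hij => ?_
    by_cases g : i.val + 1 < j.val
    · rw [hA0 i j g, zero_mul]; exact hfar i j g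
    · fin_cases i <;> fin_cases j <;> simp at hij g <;> assumption
  have hPc : P = 1 ∨ P = 2 := by have : P ≤ 2 := by nlinarith
                                 omega
  have w10 := s01.1
  have w21 := s12.1
  have w43 := s34.1
  rcases hPc with rfl | rfl
  · obtain rfl : Q = 2 := by linarith
    refine Or.inr (Or.inr (Or.inr (Or.inr (Or.inr (Or.inr (Or.inr (Or.inr (Or.inl ⟨rfl, ?_⟩))))))))
    refine hfits _ _ _ t (T.w (v 3)) (fun i => ?_) (fun i => ?_) ?_ ?_ ?_ ?_ (by unfold f4bA; decide)
    · fin_cases i <;> simp [f4bM] <;> linarith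
    · fin_cases i <;> simp [f4bW] <;> linarith
    · rw [s01.2]; simp [f4bA]; linarith
    · rw [s12.2]; simp [f4bA]; linarith
    · simp [f4bA]; linarith
    · rw [s34.2]; simp [f4bA]
  · obtain rfl : Q = 1 := by linarith
    refine Or.inr (Or.inr (Or.inr (Or.inr (Or.inr (Or.inr (Or.inr (Or.inl ⟨rfl, ?_⟩)))))))
    refine hfits _ _ _ t (T.w (v 2)) (fun i => ?_) (fun i => ?_) ?_ ?_ ?_ ?_ (by unfold f4aA; decide)
    · fin_cases i <;> simp [f4aM] <;> linarith
    · fin_cases i <;> simp [f4aW] <;> linarith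
    · rw [s01.2]; simp [f4aA]; linarith
    · rw [s12.2]; simp [f4aA]; linarith
    · simp [f4aA]; linarith
    · rw [s34.2]; simp [f4aA]; linarith

/-- Chains through all indices. -/
lemma path_case (v : Fin n ↪ Fin n) (hn : 4 ≤ n) (hc : IsChain T v)
    (hfar : ∀ j l : Fin n, j.val + 1 < l.val → T.a (v j) (v l) = 0) : Affine T := by
  classical
  have hedge : ∀ a b : Fin n, b.val = a.val + 1 → Simple T (v a) (v b) ∨ Double T (v a) (v b) :=
    chain_edge T (by omega) (by omega) (fun _ => hall _) hc
  let z : Fin n := ⟨0, by omega⟩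
  let lst : Fin n := ⟨n - 1, by omega⟩
  have hlst : lst.val + 1 = n := by simp [lst]; omega
  let D : Finset (Fin n) := univ.filter fun a => ∃ b : Fin n, b.val = a.val + 1 ∧ Double T (v a) (v b)
  have hD : ∀ a b : Fin n, b.val = a.val + 1 → a ∉ D → Simple T (v a) (v b) := fun a b hab g =>
    (hedge a b hab).resolve_right fun hd => g (mem_filter.mpr ⟨mem_univ _, b, hab, hd⟩)
  rcases D.eq_empty_or_nonempty with hD0 | hD0
  · -- all edges simple: impossible
    exfalso
    have hs : ∀ a b : Fin n, b.val = a.val + 1 → Simple T (v a) (v b) := fun a b g => hD a b g (by simp [hD0])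
    have hb : Function.Surjective v := (Finite.injective_iff_surjective).mp v.injective
    have hrow : ∀ i x, x ≠ v i →
        (∀ j : Fin n, j.val = i.val + 1 ∨ i.val = j.val + 1 → v j ≠ x) → T.a (v i) x = 0 := by
      intro i x hx hj
      obtain ⟨q, rfl⟩ := hb x
      have hqi : q.val ≠ i.val := fun g => hx (congrArg v (Fin.ext g))
      have := mt (hj q) (not_not.mpr rfl)
      by_cases g : i.val < q.val
      · exact hfar i q (by omega)
      · rw [symm' T]; exact hfar q i (by omega)
    have hA := arm T hall v lst z rfl (fun a b _ g => hs a b g) fun i _ => hrow i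
    let l : Fin n := ⟨n - 2, by omega⟩
    have hl : l.val + 2 = n := by simp [l]; omega
    have h := row_exact1 T (hall (v lst)) (p := v l) (v.injective.ne (Fin.ne_of_val_ne (by omega)))
      fun x g1 g2 => hrow lst x g1 fun j hj g => by
        rw [show j = l from Fin.ext (by omega)] at g; exact g2 g.symm
    have sl := hs l lst (by omega)
    rw [symm' T, sl.2, ← sl.1, hA l.val l rfl (by omega), hA lst.val lst rfl le_rfl] at h
    have hlz : (l.val : ℤ) + 2 = n := by exact_mod_cast hl
    have hsz : (lst.val : ℤ) + 1 = n := by exact_mod_cast hlst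
    have hpos := mul_pos (T.w_pos (v lst)) (T.m_pos (v z))
    rw [hsz, show (l.val : ℤ) + 1 = n - 1 by linarith] at h
    have hnz : (4 : ℤ) ≤ n := by exact_mod_cast hn
    nlinarith
  -- the first double edge
  obtain ⟨e, he, hemin⟩ := D.exists_min_image (fun a => a.val) hD0
  obtain ⟨e', hee, hde⟩ := (mem_filter.mp he).2
  rcases (D.erase e).eq_empty_or_nonempty with h1 | h1
  · -- a single double edge
    have hs : ∀ a b : Fin n, b.val = a.val + 1 → a ≠ e → Simple T (v a) (v b) := fun a b g g' =>
      hD a b g fun q => by simpa [h1] using mem_erase.mpr ⟨g', q⟩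
    by_cases hle : n ≤ 2 * e.val + 2
    · exact one_case T hall v hfar e e' z lst rfl hlst hee hde hs hle
    refine one_case T hall (rev v) (fun j l g => ?_) e'.rev e.rev z lst rfl hlst
      (by simp [Fin.val_rev]; omega) ?_ (fun a b g g' => ?_) (by simp [Fin.val_rev]; omega)
    · rw [rev_apply, rev_apply, symm' T]; exact hfar _ _ (by simp [Fin.val_rev]; omega)
    · rw [rev_rev, rev_rev]; exact hde.symm
    · rw [rev_apply, rev_apply]
      refine (hs _ _ (by simp [Fin.val_rev]; omega) fun q => g' ?_).symm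
      have := congrArg Fin.val q
      exact Fin.ext (by simp [Fin.val_rev] at this ⊢; omega)
  -- two double edges: they are the outer ones
  obtain ⟨f, hf, hfmin⟩ := (D.erase e).exists_min_image (fun a => a.val) h1
  obtain ⟨f', hff, hdf⟩ := (mem_filter.mp (mem_of_mem_erase hf)).2
  have hef : e.val < f.val := lt_of_le_of_ne (hemin f (mem_of_mem_erase hf))
    fun g => ne_of_mem_erase hf (Fin.ext g.symm)
  have hs : ∀ a b : Fin n, e.val < a.val → a.val < f.val → b.val = a.val + 1 → Simple T (v a) (v b) := by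
    intro a b g g' gab
    refine hD a b gab fun q => ?_
    have := hfmin a (mem_erase.mpr ⟨Fin.ne_of_val_ne (by omega), q⟩)
    omega
  have hfull : f'.val + 1 - e.val = n := by
    by_contra g
    have := f'.2
    obtain ⟨L, hL⟩ : ∃ L, L = f'.val + 1 - e.val := ⟨_, rfl⟩
    refine no_double_double T (v := seg v e.val L (by omega)) (by omega) (fun _ => hall _)
      ⟨0, by omega⟩ ⟨1, by omega⟩ ⟨f.val - e.val, by omega⟩ ⟨f'.val - e.val, by omega⟩ rfl
      (by simp; omega) (by simp; omega) ?_ ?_ fun a b g1 g2 g3 => ?_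
    · rw [seg_apply, seg_apply]
      convert hde using 2
      · exact Fin.ext (by simp)
      · exact Fin.ext (by simp; omega)
    · rw [seg_apply, seg_apply]
      convert hdf using 2
      · exact Fin.ext (by simp; omega)
      · exact Fin.ext (by simp; omega)
    · rw [seg_apply, seg_apply]
      simp only at g1 g2
      exact hs _ _ (by simp; omega) (by simp; omega) (by simp; omega)
  have := f'.2
  obtain ⟨P, Q, hPQ, hP, hQ, hA, hB⟩ := hde
  obtain ⟨P', Q', hPQ', hP', hQ', hA', hB'⟩ := hdf
  have hs' : ∀ a b : Fin n, 1 ≤ a.val → b.val + 2 ≤ n → b.val = a.val + 1 → Simple T (v a) (v b) :=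
    fun a b g g' gab => hs a b (by omega) (by omega) gab
  by_cases hor : P = 1 ∧ P' = 1
  · -- reverse
    obtain ⟨rfl, rfl⟩ := hor
    refine two_case T hall (rev v) hn (fun j l g => ?_) (fun a b g g' gab => ?_) f'.rev f.rev e'.rev e.rev
      (by simp [Fin.val_rev]; omega) (by simp [Fin.val_rev]; omega) (by simp [Fin.val_rev]; omega)
      (by simp [Fin.val_rev]; omega) Q' 1 Q 1 (by linarith) hQ' one_pos (by linarith) hQ one_pos ?_ ?_ ?_ ?_
      (fun g => by rw [g.1] at hPQ'; norm_num at hPQ')
    · rw [rev_apply, rev_apply, symm' T]; exact hfar _ _ (by simp [Fin.val_rev]; omega)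
    · rw [rev_apply, rev_apply]
      exact (hs' _ _ (by simp [Fin.val_rev]; omega) (by simp [Fin.val_rev]; omega) (by simp [Fin.val_rev]; omega)).symm
    all_goals rw [rev_rev, rev_rev, symm' T]
    · exact hB'
    · exact hA'
    · exact hB
    · exact hA
  · exact two_case T hall v hn hfar hs' e e' f f' (by omega) (by omega) (by omega) (by omega) P Q P' Q'
      hPQ hP hQ hPQ' hP' hQ' hA hB hA' hB' hor

omit hall

/-- A chain with one further index hanging on it. -/
lemma tree_case (hall : ∀ i, T.IsMinusTwo i) (v : Fin k ↪ Fin n) (hn : n = k + 1) (hc : IsChain T v)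
    (hfar : ∀ j l : Fin k, j.val + 1 < l.val → T.a (v j) (v l) = 0) (c : Fin n) (hc0 : ∀ a, v a ≠ c)
    (p : Fin k) (hp : 0 < p.val) (hp' : p.val + 1 < k) (e1 : T.a c (v p) ≠ 0)
    (hzc : ∀ a, a ≠ p → T.a (v a) c = 0) : Affine T := by
  classical
  have hedge : ∀ a b : Fin k, b.val = a.val + 1 → Simple T (v a) (v b) ∨ Double T (v a) (v b) :=
    chain_edge T (by omega) (by omega) (fun _ => hall _) hc
  have e1' : T.a (v p) c ≠ 0 := by rw [symm' T]; exact e1
  -- a double edge before `p` gives a D-type
  have left : ∀ (v : Fin k ↪ Fin n), IsChain T v → (∀ a b : Fin k, b.val = a.val + 1 → Simple T (v a) (v b) ∨ Double T (v a) (v b)) →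
      (∀ a, v a ≠ c) → ∀ p : Fin k, p.val + 1 < k → T.a (v p) c ≠ 0 →
      (∃ a b : Fin k, b.val = a.val + 1 ∧ b.val ≤ p.val ∧ Double T (v a) (v b)) → Affine T := by
    intro v hc hedge hc0 p hp' e1' ⟨a, b, hab, hbp, hd⟩
    let D : Finset (Fin k) := univ.filter fun b => b.val ≤ p.val ∧ ∃ a : Fin k, b.val = a.val + 1 ∧ Double T (v a) (v b)
    obtain ⟨j1, hj1, hmax⟩ := D.exists_max_image (fun a => a.val) ⟨b, mem_filter.mpr ⟨mem_univ _, hbp, a, hab, hd⟩⟩
    obtain ⟨hj1p, j0, hj, hd1⟩ := (mem_filter.mp hj1).2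
    refine dTree_case T hall v hc hn c hc0 p hp' e1' j0 j1 hj hj1p hd1 fun x y g g' gxy => ?_
    refine (hedge x y gxy).resolve_right fun hd' => ?_
    have := hmax y (mem_filter.mpr ⟨mem_univ _, g', x, gxy, hd'⟩)
    omega
  by_cases hL : ∃ a b : Fin k, b.val = a.val + 1 ∧ b.val ≤ p.val ∧ Double T (v a) (v b)
  · exact left v hc hedge hc0 p hp' e1' hL
  by_cases hR : ∃ a b : Fin k, b.val = a.val + 1 ∧ p.val ≤ a.val ∧ Double T (v a) (v b)
  · obtain ⟨a, b, hab, hpa, hd⟩ := hR
    refine left (rev v) (isChain_rev hc)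
      (chain_edge T (by omega) (by omega) (fun _ => hall _) (isChain_rev hc))
      (fun _ => hc0 _) p.rev (by simp [Fin.val_rev]; omega) (by rw [rev_rev]; exact e1')
      ⟨b.rev, a.rev, by simp [Fin.val_rev]; omega, by simp [Fin.val_rev]; omega, ?_⟩
    rw [rev_rev, rev_rev]; exact hd.symm
  have hs : ∀ a b : Fin k, b.val = a.val + 1 → Simple T (v a) (v b) := fun a b g =>
    (hedge a b g).resolve_right fun hd => by
      by_cases g' : b.val ≤ p.val
      · exact hL ⟨a, b, g, g', hd⟩
      · exact hR ⟨a, b, g, by omega, hd⟩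
  let pl : Fin k := ⟨p.val - 1, by omega⟩
  let pr : Fin k := ⟨p.val + 1, hp'⟩
  have hplv : pl.val + 1 = p.val := by simp [pl]; omega
  have npl : v p ≠ v pl := v.injective.ne (Fin.ne_of_val_ne (by omega))
  have npr : v p ≠ v pr := v.injective.ne (Fin.ne_of_val_ne (by simp [pr]))
  have nlr : v pl ≠ v pr := v.injective.ne (Fin.ne_of_val_ne (by simp [pr]; omega))
  have epl : T.a (v p) (v pl) ≠ 0 := by rw [symm' T]; exact hc pl p hplv.symm
  have epr : T.a (v p) (v pr) ≠ 0 := hc p pr rfl
  rcases (edge_cases T (by omega) (Ne.symm npl) (hc0 p) (hc0 pl) (hall _) (hall _) (hall _) (hc pl p hplv.symm) e1').1 with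
    _ | hd
  · rcases (edge_cases T (by omega) (hc0 p).symm npr (hc0 pr).symm (hall _) (hall _) (hall _) e1 epr).1 with hpc | hd
    · refine e78_case T hall v hn c hc0 p hp hp' (fun x hx => ?_) hzc hfar hs hpc.symm
      by_contra hne
      push Not at hne
      have hx0 : ∀ a, cons c v hc0 a ≠ x := fun a => by
        induction a using Fin.cases with
        | zero => rw [cons_zero]; exact Ne.symm hx
        | succ i => rw [cons_succ]; exact hne i
      have := card_le_of_embedding (cons x (cons c v hc0) hx0)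
      omega
    · -- the hanging edge is double
      by_cases h4 : 4 < n
      · exact absurd (branch T h4 (hc0 p) npl npr (hc0 pl).symm (hc0 pr).symm nlr (hall _) (hall _) (hall _) (hall _)
          e1' epl epr).symm (not_simple_of_double hd)
      have hk : k = 3 := by omega
      subst hk
      have hp1 : p.val = 1 := by omega
      have hc1 : ∀ a, seg v 1 2 (by omega) a ≠ c := fun a => hc0 _
      let w := cons c (seg v 1 2 (by omega)) hc1
      have hw0 : w 0 = c := rfl
      have hw1 : w 1 = v p := congrArg v (Fin.ext (by simp [hp1]))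
      refine dTree_case T hall w (isChain_cons (isChain_seg hc _ _ _) fun i hi => ?_) hn (v ⟨0, by omega⟩) ?_ 1
        (by simp) ?_ 0 1 rfl le_rfl ?_ (fun a b g g' gab => absurd g (by simp at g' ⊢; omega))
      · rw [seg_apply, show (⟨1 + i.val, by omega⟩ : Fin 3) = p from Fin.ext (by simp; omega)]; exact e1
      · intro a
        induction a using Fin.cases with
        | zero => exact (hc0 _).symm
        | succ i => exact v.injective.ne (Fin.ne_of_val_ne (by simp))
      · rw [hw1, show (⟨0, by omega⟩ : Fin 3) = pl from Fin.ext (by simp [pl]; omega)]; exact epl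
      · rw [hw0, hw1]; exact hd
  · exact absurd (hs pl p hplv.symm) (not_simple_of_double hd)

/-- The classification of configurations where all indices are `(-2)`-indices. -/
theorem affine_of_all_minusTwo (hn : 4 ≤ n) (hall : ∀ i, T.IsMinusTwo i) : Affine T := by
  classical
  by_cases hch : ∃ (k : ℕ) (v : Fin k ↪ Fin n) (j l : Fin k),
      IsChain T v ∧ j.val + 1 < l.val ∧ T.a (v j) (v l) ≠ 0
  · obtain ⟨k, v, j, l, h1, h2, h3⟩ := hch
    exact cycle_case T hall v h1 j l h2 h3
  push Not at hch
  have hfar : ∀ (k : ℕ) (v : Fin k ↪ Fin n), IsChain T v → ∀ j l : Fin k, j.val + 1 < l.val → T.a (v j) (v l) = 0 :=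
    fun k v h j l g => hch k v j l h g
  have hex : ∃ v : Fin 1 ↪ Fin n, IsChain T v :=
    ⟨⟨fun _ => ⟨0, by omega⟩, fun a b _ => Subsingleton.elim a b⟩, fun a b h => absurd h (by omega)⟩
  obtain ⟨k, hk⟩ : ∃ k, k = Nat.findGreatest (fun k => ∃ v : Fin k ↪ Fin n, IsChain T v) n := ⟨_, rfl⟩
  have hk1 : 1 ≤ k := by rw [hk]; exact Nat.le_findGreatest (by omega) hex
  obtain ⟨v, hc⟩ : ∃ v : Fin k ↪ Fin n, IsChain T v := by
    rw [hk]; exact Nat.findGreatest_spec (m := 1) (P := fun k => ∃ v : Fin k ↪ Fin n, IsChain T v) (by omega) hex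
  have hmax : ∀ (k' : ℕ) (v' : Fin k' ↪ Fin n), IsChain T v' → k' ≤ k := fun k' v' h => by
    rw [hk]; exact Nat.le_findGreatest (card_le_of_embedding v') ⟨v', h⟩
  rcases eq_or_lt_of_le (card_le_of_embedding v) with hkn | hkn
  · subst hkn; exact path_case T hall v hn hc (hfar _ v hc)
  -- attached indices avoid both ends
  have hint : ∀ (c : Fin n), (∀ a, v a ≠ c) → ∀ p, T.a c (v p) ≠ 0 → 0 < p.val ∧ p.val + 1 < k := by
    intro c hc0 p hp
    constructor
    · by_contra g
      have := hmax _ _ (isChain_cons (h := hc0) hc fun i hi => by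
        rwa [show i = p from Fin.ext (by omega)])
      omega
    · by_contra g
      have := hmax _ _ (isChain_cons (c := c) (v := rev v) (h := fun _ => hc0 _) (isChain_rev hc) fun i hi => by
        rwa [rev_apply, show i.rev = p from Fin.ext (by simp [Fin.val_rev]; omega)])
      omega
  -- an attached index meets the chain once
  have honce : ∀ (c : Fin n), (∀ a, v a ≠ c) → ∀ p q : Fin k, T.a c (v p) ≠ 0 → T.a c (v q) ≠ 0 → p.val < q.val → False := by
    intro c hc0 p q hp hq hpq
    have hs0 : ∀ a, seg v p.val (q.val - p.val + 1) (by omega) a ≠ c := fun _ => hc0 _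
    have hch' := isChain_cons (h := hs0) (isChain_seg hc _ _ _) fun i hi => by
      rwa [seg_apply, show (⟨p.val + i.val, by omega⟩ : Fin k) = p from Fin.ext (by show p.val + i.val = p.val; omega)]
    have := hfar _ _ hch' 0 (⟨q.val - p.val, by omega⟩ : Fin (q.val - p.val + 1)).succ (by simp; omega)
    rw [cons_zero, cons_succ, seg_apply,
      show (⟨p.val + (q.val - p.val), by omega⟩ : Fin k) = q from Fin.ext (by simp; omega)] at this
    exact hq this
  by_cases hlong : ∃ c d, c ≠ d ∧ (∀ a, v a ≠ c) ∧ (∀ a, v a ≠ d) ∧ T.a d c ≠ 0 ∧ ∃ p, T.a c (v p) ≠ 0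
  · obtain ⟨c, d, hcd, hc0, hd0, hdc, p, hp⟩ := hlong
    have key : ∀ (v : Fin k ↪ Fin n), IsChain T v → (∀ a, v a ≠ c) → (∀ a, v a ≠ d) → ∀ p : Fin k,
        T.a c (v p) ≠ 0 → 2 ≤ p.val := by
      intro v hc hc0 hd0 p hp
      have hs0 : ∀ a, seg v p.val (k - p.val) (by omega) a ≠ c := fun _ => hc0 _
      have h1 := isChain_cons (h := hs0) (isChain_seg hc _ _ _) fun i hi => by
        rwa [seg_apply, show (⟨p.val + i.val, by omega⟩ : Fin k) = p from Fin.ext (by simp; omega)]
      have hs1 : ∀ a, cons c _ hs0 a ≠ d := fun a => by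
        induction a using Fin.cases with
        | zero => rw [cons_zero]; exact hcd
        | succ i => rw [cons_succ]; exact hd0 _
      have := hmax _ _ (isChain_cons (h := hs1) h1 fun i hi => by
        rwa [show i = 0 from Fin.ext hi, cons_zero])
      omega
    have h1 := key v hc hc0 hd0 p hp
    have h2 := key (rev v) (isChain_rev hc) (fun _ => hc0 _) (fun _ => hd0 _) p.rev (by rwa [rev_rev])
    exact e6_case T hall v hc c d hcd hc0 hd0 p h1 (by simp [Fin.val_rev] at h2; omega) hp hdc
  -- every other index is attached to the chain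
  have hatt : ∀ c, (∀ a, v a ≠ c) → ∃ p, T.a c (v p) ≠ 0 := by
    by_contra g
    push Not at g
    obtain ⟨c, hc0, hcz⟩ := g
    let I : Finset (Fin n) := univ.filter fun x => (∀ a, v a ≠ x) ∧ ∀ p, T.a x (v p) = 0
    have hI : I.Nonempty := ⟨c, mem_filter.mpr ⟨mem_univ _, hc0, hcz⟩⟩
    have hI' : I ≠ univ := fun g => (mem_filter.mp (g ▸ mem_univ (v ⟨0, hk1⟩) : v ⟨0, hk1⟩ ∈ I)).2.1 _ rfl
    obtain ⟨a, ha, b, hb, hab⟩ := T.connected I hI hI'
    obtain ⟨ha0, haz⟩ := (mem_filter.mp ha).2
    by_cases g : ∃ q, v q = b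
    · obtain ⟨q, rfl⟩ := g
      exact hab (haz q)
    push Not at g
    obtain ⟨p, hp⟩ : ∃ p, T.a b (v p) ≠ 0 := by
      by_contra g'; push Not at g'
      exact hb (mem_filter.mpr ⟨mem_univ _, g, g'⟩)
    exact hlong ⟨b, a, fun e => hb (e ▸ ha), g, ha0, hab, p, hp⟩
  by_cases htwo : ∃ c c', c ≠ c' ∧ (∀ a, v a ≠ c) ∧ ∀ a, v a ≠ c'
  · obtain ⟨c, c', hcc, hc0, hc0'⟩ := htwo
    obtain ⟨p, hp⟩ := hatt c hc0
    obtain ⟨p', hp'⟩ := hatt c' hc0'
    obtain ⟨i1, i2⟩ := hint c hc0 p hp
    obtain ⟨i1', i2'⟩ := hint c' hc0' p' hp'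
    have hcard : k + 2 ≤ n := by
      have h' : ∀ a, cons c v hc0 a ≠ c' := fun a => by
        induction a using Fin.cases with
        | zero => rw [cons_zero]; exact hcc
        | succ i => rw [cons_succ]; exact hc0' i
      exact card_le_of_embedding (cons c' (cons c v hc0) h')
    rcases le_total p.val p'.val with g | g
    · exact fork_case T hall v hc hcard c c' hcc hc0 hc0' p p' i1 g i2' hp (by rw [symm' T]; exact hp')
    · exact fork_case T hall v hc hcard c' c hcc.symm hc0' hc0 p' p i1' g i2 hp' (by rw [symm' T]; exact hp)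
  push Not at htwo
  obtain ⟨c, hc0⟩ : ∃ c, ∀ a, v a ≠ c := by
    by_contra g; push Not at g
    have := Fintype.card_le_of_surjective v g
    simp at this; omega
  have hcov : ∀ x, x ≠ c → ∃ a, v a = x := fun x hx => htwo c x hx.symm hc0
  have hn1 : n = k + 1 := by
    have := Fintype.card_le_of_surjective (cons c v hc0) fun x => by
      by_cases g : x = c
      · exact ⟨0, g.symm⟩
      · obtain ⟨a, ha⟩ := hcov x g; exact ⟨a.succ, ha⟩
    simp at this; omega
  obtain ⟨p, hp⟩ := hatt c hc0
  obtain ⟨i1, i2⟩ := hint c hc0 p hp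
  refine tree_case T hall v hn1 hc (hfar _ v hc) c hc0 p i1 i2 hp fun a ha => ?_
  by_contra g
  rw [symm' T] at g
  rcases lt_or_gt_of_ne (fun e => ha (Fin.ext e) : a.val ≠ p.val) with g' | g'
  · exact honce c hc0 a p g hp g'
  · exact honce c hc0 p a hp g g'

end Chains

lemma all_minusTwo_of_genus_one (hn : 1 < n) (hmin : T.IsMinimal) (hg : T.genus = 1) (i : Fin n) :
    T.IsMinusTwo i := by
  have h := two_genus T
  rw [hg, sub_self, mul_zero] at h
  have h0 := (sum_eq_zero_iff_of_nonneg fun j _ => mul_nonneg (T.m_pos j).le (contrib_nonneg T hn hmin j)).mp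
    h.symm i (mem_univ i)
  exact isMinusTwo_of_contrib_zero T hn ((mul_eq_zero.mp h0).resolve_left (T.m_pos i).ne')

variable {T}

/-- All entries of a fitting configuration. -/
lemma Fits.entries {M W : Fin n → ℤ} {A : Fin n → Fin n → ℤ} (hall : ∀ i, T.IsMinusTwo i)
    (h : Fits T M W A) : ∃ (σ : Equiv.Perm (Fin n)) (m w : ℤ), (∀ i, T.m (σ i) = M i * m) ∧
      (∀ i, T.w (σ i) = W i * w) ∧
      ∀ i j : Fin n, T.a (σ i) (σ j) =
        if i.val < j.val then A i j * w else if j.val < i.val then A j i * w else -2 * (W i * w) := by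
  obtain ⟨σ, m, w, hm, hw, ha⟩ := h
  refine ⟨σ, m, w, hm, hw, fun i j => ?_⟩
  split_ifs with g g'
  · exact ha i j g
  · rw [symm' T]; exact ha j i g'
  · obtain rfl : i = j := Fin.ext (by omega)
    rw [(hall (σ i)).2, hw]

end Groth.Agent.NumType
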