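import Groth.Prelude.Def_Models
import Mathlib.Algebra.BigOperators.Ring.Finset
import Mathlib.Algebra.Order.BigOperators.Ring.Finset
import Mathlib.Algebra.BigOperators.Field
import Mathlib.Data.Rat.Cast.Order
import Mathlib.Data.ZMod.Basic
import Mathlib.Tactic.Linarith
import Mathlib.Tactic.FieldSimp
import Mathlib.Tactic.Positivity
import Mathlib.Tactic.Ring
import Mathlib.Tactic.LinearCombination
import Mathlib.Tactic.IntervalCases

/-!
Elementary facts on numerical types: the quadratic form is negative definite on proper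
sub-configurations, and consequences of that.
-/

set_option autoImplicit false

open Finset Models

namespace Groth.Agent.NumType

section Form

variable {n : ℕ}

/-- The basic identity: a symmetric quadratic form evaluated at `m * y`. -/
lemma two_mul_quad {R : Type*} [CommRing R] (A : Fin n → Fin n → R) (hA : ∀ i j, A i j = A j i)
    (m y : Fin n → R) :
    2 * ∑ i, ∑ j, A i j * (m i * y i) * (m j * y j) =
      2 * ∑ i, m i * (∑ j, A i j * m j) * y i ^ 2 - ∑ i, ∑ j, A i j * m i * m j * (y i - y j) ^ 2 := by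
  have h1 : ∑ i, ∑ j, A i j * m i * m j * y j ^ 2 = ∑ i, m i * (∑ j, A i j * m j) * y i ^ 2 := by
    rw [Finset.sum_comm]
    refine Finset.sum_congr rfl fun i _ => ?_
    rw [Finset.mul_sum, Finset.sum_mul]
    exact Finset.sum_congr rfl fun j _ => by rw [hA j i]; ring
  have h2 : ∑ i, ∑ j, A i j * m i * m j * y i ^ 2 = ∑ i, m i * (∑ j, A i j * m j) * y i ^ 2 := by
    refine Finset.sum_congr rfl fun i _ => ?_
    rw [Finset.mul_sum, Finset.sum_mul]
    exact Finset.sum_congr rfl fun j _ => by ring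
  have h3 : ∀ i j, A i j * m i * m j * (y i - y j) ^ 2 =
      A i j * m i * m j * y i ^ 2 + A i j * m i * m j * y j ^ 2 -
        2 * (A i j * (m i * y i) * (m j * y j)) := fun i j => by ring
  simp only [h3, Finset.sum_sub_distrib, Finset.sum_add_distrib, h1, h2, ← Finset.mul_sum]
  ring

variable {K : Type*} [Field K] [LinearOrder K] [IsStrictOrderedRing K]

/-- Semi-definiteness with a positive super-solution, and what equality forces. -/
lemma quad_nonpos (A : Fin n → Fin n → K) (hA : ∀ i j, A i j = A j i)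
    (hoff : ∀ i j, i ≠ j → 0 ≤ A i j) (m : Fin n → K) (hm : ∀ i, 0 < m i)
    (hAm : ∀ i, ∑ j, A i j * m j ≤ 0) (x : Fin n → K) :
    ∑ i, ∑ j, A i j * x i * x j ≤ 0 ∧
      (∑ i, ∑ j, A i j * x i * x j = 0 →
        (∀ i j, i ≠ j → A i j ≠ 0 → x i / m i = x j / m j) ∧
          ∀ i, ∑ j, A i j * m j < 0 → x i = 0) := by
  set y : Fin n → K := fun i => x i / m i with hy
  have hx : ∀ i, m i * y i = x i := fun i => mul_div_cancel₀ _ (hm i).ne'
  have key := two_mul_quad A hA m y
  simp only [hx] at key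
  have hB : ∀ i, m i * (∑ j, A i j * m j) * y i ^ 2 ≤ 0 := fun i =>
    mul_nonpos_of_nonpos_of_nonneg (mul_nonpos_of_nonneg_of_nonpos (hm i).le (hAm i)) (sq_nonneg _)
  have hC : ∀ i j, 0 ≤ A i j * m i * m j * (y i - y j) ^ 2 := by
    intro i j
    rcases eq_or_ne i j with rfl | h
    · simp
    · have := hoff i j h; have := hm i; have := hm j; positivity
  have h1 := Finset.sum_nonpos fun i (_ : i ∈ univ) => hB i
  have h2 := Finset.sum_nonneg fun i (_ : i ∈ univ) => Finset.sum_nonneg fun j (_ : j ∈ univ) => hC i j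
  refine ⟨by linarith, fun h0 => ⟨fun i j hij hne => ?_, fun i hi => ?_⟩⟩
  · have hz : ∑ i, ∑ j, A i j * m i * m j * (y i - y j) ^ 2 = 0 := by linarith
    have h3 := (Finset.sum_eq_zero_iff_of_nonneg fun i _ => Finset.sum_nonneg fun j _ => hC i j).mp hz i (mem_univ _)
    have h4 := (Finset.sum_eq_zero_iff_of_nonneg fun j _ => hC i j).mp h3 j (mem_univ _)
    have h5 : (y i - y j) ^ 2 = 0 := by
      rcases mul_eq_zero.mp h4 with h | h
      · simp [hne, (hm i).ne', (hm j).ne'] at h
      · exact h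
    exact sub_eq_zero.mp (eq_zero_of_pow_eq_zero h5)
  · have hz : ∑ i, m i * (∑ j, A i j * m j) * y i ^ 2 = 0 := by linarith
    have h3 := (Finset.sum_eq_zero_iff_of_nonpos fun i _ => hB i).mp hz i (mem_univ _)
    have h5 : y i = 0 := by
      rcases mul_eq_zero.mp h3 with h | h
      · simp [hi.ne, (hm i).ne'] at h
      · exact eq_zero_of_pow_eq_zero h
    rw [← hx i, h5, mul_zero]

omit [LinearOrder K] [IsStrictOrderedRing K] in
/-- A locally constant function on a connected configuration is constant. -/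
lemma const_of_connected (A : Fin n → Fin n → K)
    (hconn : ∀ I : Finset (Fin n), I.Nonempty → I ≠ univ → ∃ i ∈ I, ∃ j ∉ I, A i j ≠ 0)
    (y : Fin n → K) (hy : ∀ i j, i ≠ j → A i j ≠ 0 → y i = y j) (i j : Fin n) : y i = y j := by
  classical
  by_contra hne
  obtain ⟨a, ha, b, hb, hab⟩ := hconn (univ.filter fun k => y k = y i) ⟨i, by simp⟩ fun h => hne (by
    have : j ∈ univ.filter fun k => y k = y i := by rw [h]; exact mem_univ j
    exact (mem_filter.mp this).2.symm)
  simp only [mem_filter, mem_univ, true_and] at ha hb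
  rcases eq_or_ne a b with rfl | hab'
  · exact hb ha
  · exact hb ((hy a b hab' hab).symm.trans ha)

end Form

variable {n : ℕ} (T : NumericalType n)

lemma symm' (i j : Fin n) : T.a i j = T.a j i := (T.symm.apply i j).symm

lemma row (i : Fin n) : ∑ j, T.a i j * T.m j = 0 := congrFun T.mulVec_m i

lemma row_eq (i : Fin n) : ∑ j ∈ univ.erase i, T.a i j * T.m j = -(T.a i i * T.m i) := by
  rw [eq_neg_iff_add_eq_zero, Finset.sum_erase_add _ _ (mem_univ i)]; exact row T i

lemma row_le (i : Fin n) (s : Finset (Fin n)) (hs : i ∉ s) :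
    ∑ j ∈ s, T.a i j * T.m j ≤ -(T.a i i * T.m i) := by
  rw [← row_eq T i]
  refine Finset.sum_le_sum_of_subset_of_nonneg (fun j hj => by
    simp only [mem_erase, mem_univ, and_true]; exact fun h => hs (h ▸ hj)) fun j hj _ => ?_
  simp only [mem_erase, mem_univ, and_true] at hj
  exact mul_nonneg (T.offDiag_nonneg i j (Ne.symm hj)) (T.m_pos j).le

lemma le_row {i j : Fin n} (h : i ≠ j) : T.a i j * T.m j ≤ -(T.a i i * T.m i) := by
  simpa using row_le T i {j} (by simpa using h)

lemma exists_neighbour (hn : 1 < n) (i : Fin n) : ∃ j, i ≠ j ∧ 0 < T.a i j := by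
  obtain ⟨a, ha, b, hb, hab⟩ := T.connected {i} ⟨i, mem_singleton_self i⟩ (fun h => by
    have := congrArg Finset.card h; simp at this; omega)
  simp only [mem_singleton] at ha hb
  subst a
  exact ⟨b, Ne.symm hb, lt_of_le_of_ne (T.offDiag_nonneg _ _ (Ne.symm hb)) (Ne.symm hab)⟩

lemma diag_neg (hn : 1 < n) (i : Fin n) : T.a i i < 0 := by
  obtain ⟨j, hij, hj⟩ := exists_neighbour T hn i
  have h1 := le_row T hij
  have h2 := mul_pos hj (T.m_pos j)
  have h3 := T.m_pos i
  by_contra h; push Not at h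
  nlinarith

lemma diag_nonpos (i : Fin n) : T.a i i ≤ 0 := by
  rcases Nat.lt_or_ge 1 n with h | h
  · exact (diag_neg T h i).le
  · have h1 := row T i
    have : Subsingleton (Fin n) := ⟨fun a b => Fin.ext (by omega)⟩
    rw [Fintype.sum_subsingleton _ i] at h1
    rcases mul_eq_zero.mp h1 with h2 | h2
    · exact h2.le
    · exact absurd h2 (T.m_pos i).ne'

lemma ne_of_pos {i j : Fin n} (h : 0 < T.a i j) : i ≠ j := by
  rintro rfl; exact absurd (diag_nonpos T i) (not_le.mpr h)

lemma w_dvd' (i j : Fin n) : T.w j ∣ T.a i j := symm' T j i ▸ T.w_dvd j i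

lemma w_le {i j : Fin n} (hij : i ≠ j) (h : T.a i j ≠ 0) : T.w i ≤ T.a i j ∧ T.w j ≤ T.a i j := by
  have hp : 0 < T.a i j := lt_of_le_of_ne (T.offDiag_nonneg i j hij) (Ne.symm h)
  exact ⟨Int.le_of_dvd hp (T.w_dvd i j), Int.le_of_dvd hp (w_dvd' T i j)⟩

/-- The intersection form is negative on nonzero vectors with some zero coordinate. -/
lemma quad_neg (x : Fin n → ℤ) (hx : x ≠ 0) (h0 : ∃ i, x i = 0) :
    ∑ i, ∑ j, T.a i j * x i * x j < 0 := by
  have hq := quad_nonpos (K := ℚ) (fun i j => (T.a i j : ℚ))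
    (fun i j => by rw [symm' T i j]) (fun i j h => by exact_mod_cast T.offDiag_nonneg i j h)
    (fun i => (T.m i : ℚ)) (fun i => by exact_mod_cast T.m_pos i)
    (fun i => le_of_eq (by exact_mod_cast row T i)) (fun i => (x i : ℚ))
  have hle : ∑ i, ∑ j, T.a i j * x i * x j ≤ 0 := by exact_mod_cast hq.1
  refine lt_of_le_of_ne hle fun he => hx ?_
  have h1 := (hq.2 (by exact_mod_cast he)).1
  have hc := const_of_connected (fun i j => (T.a i j : ℚ))
    (fun I h h' => by
      obtain ⟨a, ha, b, hb, hab⟩ := T.connected I h h'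
      exact ⟨a, ha, b, hb, by exact_mod_cast hab⟩) _ h1
  obtain ⟨k, hk⟩ := h0
  funext i
  have := hc i k
  simpa [hk, (T.m_pos i).ne'] using this

variable {k : ℕ}

/-- The intersection form is negative definite on every proper sub-configuration. -/
lemma quad_sub (v : Fin k ↪ Fin n) (hk : k < n) (x : Fin k → ℤ) (hx : x ≠ 0) :
    ∑ a, ∑ b, T.a (v a) (v b) * x a * x b < 0 := by
  classical
  let y : Fin n → ℤ := Function.extend v x 0
  have hyv : ∀ a, y (v a) = x a := fun a => v.injective.extend_apply _ _ a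
  have hy0 : ∀ i, i ∉ univ.map v → y i = 0 := fun i hi =>
    Function.extend_apply' _ _ _ (by simpa using hi)
  have h0 : ∃ i, y i = 0 := by
    obtain ⟨i, hi⟩ : ∃ i, i ∉ univ.map v := by
      by_contra h; push Not at h
      have := Finset.card_le_card (fun i (_ : i ∈ (univ : Finset (Fin n))) => h i)
      simp at this; omega
    exact ⟨i, hy0 i hi⟩
  have hs : ∑ i, ∑ j, T.a i j * y i * y j = ∑ a, ∑ b, T.a (v a) (v b) * x a * x b := by
    rw [← Finset.sum_subset (subset_univ (univ.map v)) (fun i _ hi => by simp [hy0 i hi]), sum_map]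
    refine Finset.sum_congr rfl fun a _ => ?_
    rw [← Finset.sum_subset (subset_univ (univ.map v)) (fun i _ hi => by simp [hy0 i hi]), sum_map]
    exact Finset.sum_congr rfl fun b _ => by rw [hyv, hyv]
  rw [← hs]
  refine quad_neg T y (fun h => hx (funext fun a => ?_)) h0
  rw [← hyv, h]; rfl

/-- A configuration of `(-2)`-indices containing an affine Dynkin-like graph is impossible. -/
lemma forbidden (v : Fin k ↪ Fin n) (hk : k < n) (hv : ∀ a, T.IsMinusTwo (v a))
    (E : Finset (Fin k × Fin k)) (hE : ∀ p ∈ E, p.1 ≠ p.2 ∧ T.a (v p.1) (v p.2) ≠ 0)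
    (x : Fin k → ℤ) (hx0 : ∀ a, 0 ≤ x a) (hx : x ≠ 0)
    (hsum : ∀ a, 2 * x a ≤ ∑ b, if (a, b) ∈ E ∨ (b, a) ∈ E then x b else 0) : False := by
  refine not_le.mpr (quad_sub T v hk x hx) (Finset.sum_nonneg fun a _ => ?_)
  have ha := (hv a).2
  have hw := T.w_pos (v a)
  calc (0 : ℤ) ≤ T.w (v a) * x a * ((∑ b, if (a, b) ∈ E ∨ (b, a) ∈ E then x b else 0) - 2 * x a) :=
        mul_nonneg (mul_nonneg hw.le (hx0 a)) (by linarith [hsum a])
    _ = ∑ b, (T.w (v a) * x a * (if (a, b) ∈ E ∨ (b, a) ∈ E then x b else 0)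
          + if b = a then -2 * T.w (v a) * x a * x b else 0) := by
        rw [Finset.sum_add_distrib, Finset.sum_ite_eq' univ a, ← Finset.mul_sum]
        simp; ring
    _ ≤ _ := Finset.sum_le_sum fun b _ => by
        by_cases hba : b = a
        · subst hba
          rw [if_pos rfl, ha, if_neg (by rintro (h | h) <;> exact (hE _ h).1 rfl)]
          simp
        · rw [if_neg hba, add_zero]
          have hne : v a ≠ v b := fun h => hba (v.injective h).symm
          have hnn := T.offDiag_nonneg _ _ hne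
          split_ifs with h
          · have hnz : T.a (v a) (v b) ≠ 0 := by
              rcases h with h | h
              · exact (hE _ h).2
              · rw [symm' T]; exact (hE _ h).2
            exact mul_le_mul_of_nonneg_right
              (mul_le_mul_of_nonneg_right (w_le T hne hnz).1 (hx0 a)) (hx0 b)
          · rw [mul_zero]; exact mul_nonneg (mul_nonneg hnn (hx0 a)) (hx0 b)

section Genus

lemma two_dvd_sum : (2 : ℤ) ∣ ∑ i, T.m i * T.a i i := by
  classical
  refine (ZMod.intCast_zmod_eq_zero_iff_dvd _ 2).mp ?_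
  let f : Fin n × Fin n → ZMod 2 := fun p => (T.a p.1 p.2 : ZMod 2) * T.m p.1 * T.m p.2
  have hsq : ∀ z : ZMod 2, z * z = z := by decide
  have h0 : ∑ p, f p = 0 := by
    rw [Fintype.sum_prod_type]
    refine Finset.sum_eq_zero fun i _ => ?_
    have := congrArg (fun z : ℤ => (T.m i : ZMod 2) * (z : ZMod 2)) (row T i)
    simp only [Int.cast_sum, Int.cast_mul, Finset.mul_sum, Int.cast_zero, mul_zero] at this
    rw [← this]
    exact Finset.sum_congr rfl fun j _ => by simp only [f]; ring
  have h1 : ∑ p ∈ univ.filter (fun p : Fin n × Fin n => p.1 ≠ p.2), f p = 0 := by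
    refine Finset.sum_involution (fun p _ => p.swap) (fun p _ => ?_) (fun p hp _ h => ?_)
      (fun p hp => by simp only [mem_filter, mem_univ, true_and, Prod.fst_swap, Prod.snd_swap] at hp ⊢; exact Ne.symm hp)
      (fun p _ => Prod.swap_swap p)
    · have : f p.swap = f p := by simp only [f, Prod.fst_swap, Prod.snd_swap, symm' T p.2 p.1]; ring
      rw [this]; exact CharTwo.add_self_eq_zero _
    · simp only [mem_filter, mem_univ, true_and] at hp
      exact hp (congrArg Prod.snd h)
  rw [← Finset.sum_filter_add_sum_filter_not univ (fun p : Fin n × Fin n => p.1 ≠ p.2), h1, zero_add] at h0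
  rw [← h0, Int.cast_sum]
  refine Finset.sum_bij (fun i _ => (i, i)) (fun i _ => by simp) (fun a _ b _ h => congrArg Prod.fst h)
    (fun p hp => ⟨p.1, mem_univ _, by simp at hp; exact Prod.ext rfl hp⟩) fun i _ => ?_
  show _ = (T.a i i : ZMod 2) * T.m i * T.m i
  rw [mul_assoc, hsq, mul_comm, Int.cast_mul]

/-- Twice the contribution of an index, divided by the multiplicity. -/
def contrib (i : Fin n) : ℤ := 2 * T.w i * (T.g i - 1) - T.a i i

lemma two_genus : 2 * (T.genus - 1) = ∑ i, T.m i * contrib T i := by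
  obtain ⟨q, hq⟩ := two_dvd_sum T
  have : ∑ i, T.m i * contrib T i = 2 * (∑ i, T.m i * T.w i * (T.g i - 1)) - ∑ i, T.m i * T.a i i := by
    rw [Finset.mul_sum, ← Finset.sum_sub_distrib]
    exact Finset.sum_congr rfl fun i _ => by rw [contrib]; ring
  rw [this, NumericalType.genus, hq, Int.mul_ediv_cancel_left _ (by norm_num)]
  ring

lemma exists_mult (i : Fin n) : ∃ k, 0 ≤ k ∧ T.a i i = -(k * T.w i) := by
  obtain ⟨q, hq⟩ := T.w_dvd i i
  refine ⟨-q, ?_, by rw [hq]; ring⟩
  have := diag_nonpos T i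
  have := T.w_pos i
  nlinarith

lemma isMinusOne_of_contrib_neg (hn : 1 < n) {i : Fin n} (h : contrib T i < 0) : T.IsMinusOne i := by
  obtain ⟨k, hk, hak⟩ := exists_mult T i
  have hd := diag_neg T hn i
  have hw := T.w_pos i
  have hg : T.g i = 0 := by
    by_contra hg
    have : 1 ≤ T.g i := by have := T.g_nonneg i; omega
    rw [contrib] at h; nlinarith
  rw [contrib, hg, hak] at h
  have h1 : 1 ≤ k := by nlinarith
  have h2 : k < 2 := by nlinarith
  obtain rfl : k = 1 := by omega
  exact ⟨hg, by rw [hak]; ring⟩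

lemma isMinusTwo_of_contrib_zero (hn : 1 < n) {i : Fin n} (h : contrib T i = 0) : T.IsMinusTwo i := by
  have hd := diag_neg T hn i
  have hw := T.w_pos i
  have hg : T.g i = 0 := by
    by_contra hg
    have : 1 ≤ T.g i := by have := T.g_nonneg i; omega
    rw [contrib] at h; nlinarith
  rw [contrib, hg] at h
  exact ⟨hg, by linarith⟩

lemma contrib_nonneg (hn : 1 < n) (hmin : T.IsMinimal) (i : Fin n) : 0 ≤ contrib T i := by
  by_contra h; push Not at h
  exact hmin i (isMinusOne_of_contrib_neg T hn h)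

lemma contrib_of_minusTwo {i : Fin n} (h : T.IsMinusTwo i) : contrib T i = 0 := by
  rw [contrib, h.1, h.2]; ring

end Genus

/-- The two-vertex configurations. -/
lemma pair_cases (hn : 2 < n) {i j : Fin n} (hij : i ≠ j) (hi : T.IsMinusTwo i)
    (hj : T.IsMinusTwo j) (hne : T.a i j ≠ 0) :
    ∃ p q : ℤ, 1 ≤ p ∧ 1 ≤ q ∧ p * q ≤ 3 ∧ T.a i j = p * T.w i ∧ T.a i j = q * T.w j := by
  obtain ⟨p, hp⟩ := T.w_dvd i j
  obtain ⟨q, hq⟩ := w_dvd' T i j
  have hpos : 0 < T.a i j := lt_of_le_of_ne (T.offDiag_nonneg i j hij) (Ne.symm hne)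
  have hwi := T.w_pos i
  have hwj := T.w_pos j
  have hp1 : 1 ≤ p := by nlinarith
  have hq1 : 1 ≤ q := by nlinarith
  refine ⟨p, q, hp1, hq1, ?_, by rw [hp]; ring, by rw [hq]; ring⟩
  by_contra hpq; push Not at hpq
  let v : Fin 2 ↪ Fin n := ⟨![i, j], fun a b h => by fin_cases a <;> fin_cases b <;> simp_all⟩
  refine not_le.mpr (quad_sub T v hn ![T.a i j, 2 * T.w i] (fun h => hne (congrFun h 0))) ?_
  simp only [Fin.sum_univ_two, v, Function.Embedding.coeFn_mk, Matrix.cons_val_zero,
    Matrix.cons_val_one, hi.2, hj.2, symm' T j i]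
  have : 4 * (T.w i * T.w j) ≤ T.a i j * T.a i j := by
    conv_rhs => arg 1; rw [hp]
    conv_rhs => arg 2; rw [hq]
    nlinarith [mul_pos hwi hwj]
  nlinarith

end Groth.Agent.NumType
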