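import Groth.Agent.NumType.Affine
import Groth.Agent.S2183
import Groth.Agent.S2182

/-!
A bound on `m i * w i` for the `(-2)`-indices of a minimal numerical type of genus at least two.
-/

set_option autoImplicit false

open Finset Models

namespace Groth.Agent.NumType

variable {n k K : ℕ} (T : NumericalType n)

/-- The index meets one which is not a `(-2)`-index. -/
def Exit (i : Fin n) : Prop := ∃ j, ¬ T.IsMinusTwo j ∧ T.a i j ≠ 0

lemma forbid_e8 (v : Fin K ↪ Fin n) (hK : 8 ≤ K) (hn : K + 2 ≤ n) (hc : IsChain T v)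
    (hv : ∀ a, T.IsMinusTwo (v a)) (x : Fin n) (hx : T.IsMinusTwo x) (hx0 : ∀ a, v a ≠ x)
    (t : Fin K) (ht : t.val = 2) (e : T.a (v t) x ≠ 0) : False := by
  let s := seg v 0 8 (by omega)
  have hs0 : ∀ a, s a ≠ x := fun a => hx0 _
  let f : Fin 9 ↪ Fin n := ⟨fun i => if h : i.val < 8 then s (⟨i.val, h⟩ : Fin 8).rev else x, fun a b g => by
    have := a.2
    have := b.2
    simp only at g
    split_ifs at g with h1 h2 h2
    · exact Fin.ext (by simpa using congrArg Fin.val (Fin.rev_injective (s.injective g)))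
    · exact absurd g (hs0 _)
    · exact absurd g.symm (hs0 _)
    · exact Fin.ext (by omega)⟩
  have hf : ∀ (i : Fin 9) (h : i.val < 8), f i = v ⟨7 - i.val, by omega⟩ := fun i h =>
    (dif_pos h).trans (congrArg v (Fin.ext (by simp [Fin.val_rev])))
  have hf8 : f 8 = x := by simp [f]
  refine forbidden T f (by omega) (fun a => ?_)
    {(0, 1), (1, 2), (2, 3), (3, 4), (4, 5), (5, 6), (6, 7), (5, 8)} ?_ ![1, 2, 3, 4, 5, 6, 4, 2, 3]
    (by decide) (by decide) (by decide)
  · by_cases h : a.val < 8
    · rw [hf a h]; exact hv _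
    · rw [show a = 8 from Fin.ext (by simp; omega), hf8]; exact hx
  · intro p hp
    have hstep : ∀ a b : Fin 9, b.val = a.val + 1 → b.val < 8 → T.a (f a) (f b) ≠ 0 := by
      intro a b g g'
      rw [hf a (by omega), hf b g', symm' T]
      exact hc _ _ (by simp; omega)
    simp only [mem_insert, mem_singleton] at hp
    rcases hp with rfl | rfl | rfl | rfl | rfl | rfl | rfl | rfl <;> refine ⟨by decide, ?_⟩
    iterate 7 exact hstep _ _ (by decide) (by decide)
    show T.a (f 5) (f 8) ≠ 0
    rw [hf8, hf 5 (by decide), show (⟨7 - ((5 : Fin 9) : ℕ), by omega⟩ : Fin K) = t from Fin.ext (by simp [ht])]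
    exact e

/-- A long chain has no branch away from its two last indices. -/
lemma branch_long (v : Fin K ↪ Fin n) (hK : 8 ≤ K) (hn : K + 2 ≤ n) (hc : IsChain T v)
    (hv : ∀ a, T.IsMinusTwo (v a)) (x : Fin n) (hx : T.IsMinusTwo x) (hx0 : ∀ a, v a ≠ x)
    (t : Fin K) (ht : 2 ≤ t.val) (ht' : t.val + 3 ≤ K) (e : T.a (v t) x ≠ 0) : False := by
  by_cases h2 : t.val = 2
  · exact forbid_e8 T v hK hn hc hv x hx hx0 t h2 e
  by_cases h2' : t.val + 3 = K
  · exact forbid_e8 T (rev v) hK hn (isChain_rev hc) (fun a => hv _) x hx (fun a => hx0 _) t.rev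
      (by simp [Fin.val_rev]; omega) (by rwa [rev_rev])
  let s := seg v (t.val - 3) 7 (by omega)
  have hs0 : ∀ a, s a ≠ x := fun a => hx0 _
  let f : Fin 8 ↪ Fin n := ⟨fun i => if h : i.val < 7 then s ⟨i.val, h⟩ else x, fun a b g => by
    have := a.2
    have := b.2
    simp only at g
    split_ifs at g with h1 h2 h2
    · exact Fin.ext (by simpa using congrArg Fin.val (s.injective g))
    · exact absurd g (hs0 _)
    · exact absurd g.symm (hs0 _)
    · exact Fin.ext (by omega)⟩
  have hf : ∀ (i : Fin 8) (h : i.val < 7), f i = v ⟨t.val - 3 + i.val, by omega⟩ := fun i h => dif_pos h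
  have hf7 : f 7 = x := by simp [f]
  refine forbidden T f (by omega) (fun a => ?_)
    {(0, 1), (1, 2), (2, 3), (3, 4), (4, 5), (5, 6), (3, 7)} ?_ ![1, 2, 3, 4, 3, 2, 1, 2]
    (by decide) (by decide) (by decide)
  · by_cases h : a.val < 7
    · rw [hf a h]; exact hv _
    · rw [show a = 7 from Fin.ext (by simp; omega), hf7]; exact hx
  · intro p hp
    have hstep : ∀ a b : Fin 8, b.val = a.val + 1 → b.val < 7 → T.a (f a) (f b) ≠ 0 := by
      intro a b g g'
      rw [hf a (by omega), hf b g']
      exact hc _ _ (by simp; omega)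
    simp only [mem_insert, mem_singleton] at hp
    rcases hp with rfl | rfl | rfl | rfl | rfl | rfl | rfl <;> refine ⟨by decide, ?_⟩
    iterate 6 exact hstep _ _ (by decide) (by decide)
    show T.a (f 3) (f 7) ≠ 0
    rw [hf7, hf 3 (by decide),
      show (⟨t.val - 3 + ((3 : Fin 8) : ℕ), by omega⟩ : Fin K) = t from Fin.ext (by simp; omega)]
    exact e

/-- A locally largest index is close to an exit. -/
lemma far_bound (v : Fin (k + 1) ↪ Fin n) (hk : 7 ≤ k) (hc : IsChain T v) (hv : ∀ a, T.IsMinusTwo (v a))
    (j0 : Fin n) (hj0 : ¬ T.IsMinusTwo j0)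
    (hint : ∀ t : Fin (k + 1), t.val < k → ∀ j, T.a (v t) j ≠ 0 → T.IsMinusTwo j)
    (hnb : ∀ x, x ≠ v 0 → T.a (v 0) x ≠ 0 → ∀ y, T.a x y ≠ 0 → T.IsMinusTwo y)
    (hmax : ∀ x, T.IsMinusTwo x → T.m x * T.w x ≤ T.m (v 0) * T.w (v 0))
    (o : Fin (k + 1)) (ho : o.val = 1) (hlt : T.m (v o) * T.w (v o) < T.m (v 0) * T.w (v 0)) : False := by
  classical
  have hj : ∀ {l : ℕ} (u : Fin l ↪ Fin n), (∀ a, T.IsMinusTwo (u a)) → ∀ a, u a ≠ j0 :=
    fun u hu a e => hj0 (e ▸ hu a)
  have hroom : ∀ {l : ℕ} (u : Fin l ↪ Fin n), (∀ a, T.IsMinusTwo (u a)) → l < n := fun u hu =>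
    card_le_of_embedding (cons j0 u (hj u hu))
  have hkn := hroom v hv
  -- neighbours off the chain
  have hoff : ∀ t : Fin (k + 1), ∀ x, T.a (v t) x ≠ 0 →
      (∀ j : Fin (k + 1), j.val = t.val + 1 ∨ t.val = j.val + 1 → v j ≠ x) → x ≠ v t → ∀ a, v a ≠ x := by
    intro t x hx hj hne a e
    subst e
    have h1 : a.val ≠ t.val := fun g => hne (congrArg v (Fin.ext g))
    have := mt (hj a) (not_not.mpr rfl)
    by_cases g : t.val < a.val
    · exact hx (chain_far T hkn hv hc t a (by omega))
    · exact hx (by rw [symm' T]; exact chain_far T hkn hv hc a t (by omega))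
  -- lengthening at the first index
  have hlong : ∀ x, x ≠ v 0 → x ≠ v o → T.a (v 0) x ≠ 0 → T.IsMinusTwo x ∧ ∃ h : ∀ a, v a ≠ x,
      IsChain T (cons x v h) ∧ ∀ a, T.IsMinusTwo (cons x v h a) := by
    intro x h1 h2 h3
    have hx := hint 0 (by simp; omega) x h3
    have h4 := hoff 0 x h3 (fun j g => by
      rw [show j = o from Fin.ext (by simp at g; omega)]; exact Ne.symm h2) h1
    refine ⟨hx, h4, isChain_cons hc fun i hi => ?_, fun a => ?_⟩
    · rw [show i = 0 from Fin.ext (by simpa using hi), symm' T]; exact h3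
    · induction a using Fin.cases with
      | zero => exact hx
      | succ i => exact hv i
  have e01 : T.a (v 0) (v o) ≠ 0 := hc 0 o (by simp [ho])
  -- the first edge is simple
  have h01 : Simple T (v 0) (v o) := by
    rcases chain_edge T (by omega) (by omega) hv hc 0 o (by simp [ho]) with h | hd
    · exact h
    exfalso
    by_cases hx : ∃ x, x ≠ v 0 ∧ x ≠ v o ∧ T.a (v 0) x ≠ 0
    · obtain ⟨x, h1, h2, h3⟩ := hx
      obtain ⟨-, h, hcx, hvx⟩ := hlong x h1 h2 h3
      have hs := chain_inner_simple T (by omega) (hroom _ hvx) hvx hcx (Fin.succ 0) o.succ (by simp [ho]) (by simp)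
        (by simp [ho]; omega)
      rw [cons_succ, cons_succ] at hs
      exact not_simple_of_double hd hs
    push Not at hx
    have h := row_exact1 T (hv 0) (v.injective.ne (Fin.ne_of_val_ne (by simp [ho]))) hx
    obtain ⟨P, Q, hPQ, hP, hQ, hA, hB⟩ := hd
    rw [hB] at h
    have : Q ≤ 2 := by nlinarith
    have := mul_pos (T.m_pos (v o)) (T.w_pos (v o))
    nlinarith
  have hsim : ∀ a b : Fin (k + 1), b.val = a.val + 1 → b.val < k → Simple T (v a) (v b) := by
    intro a b hab hb
    by_cases g : a.val = 0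
    · rw [show a = 0 from Fin.ext (by simp [g]), show b = o from Fin.ext (by omega)]; exact h01
    · exact chain_inner_simple T (by omega) hkn hv hc a b hab (by omega) (by omega)
  set W := T.w (v 0) with hW
  have hw : ∀ a : Fin (k + 1), a.val < k → T.w (v a) = W := fun a g =>
    simple_run T 0 a (Nat.zero_le _) fun x y _ gy gxy => hsim x y gxy (by omega)
  have hwo : T.w (v o) = W := hw o (by omega)
  rw [hwo] at hlt
  have hm01 : T.m (v o) < T.m (v 0) := lt_of_mul_lt_mul_right hlt (T.w_pos _).le
  -- no branch along the chain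
  have hno : ∀ t : Fin (k + 1), 0 < t.val → t.val + 2 ≤ k → ∀ x, x ≠ v t →
      (∀ j : Fin (k + 1), j.val = t.val + 1 ∨ t.val = j.val + 1 → v j ≠ x) → T.a (v t) x = 0 := by
    intro t ht ht' x hxne hxj
    by_contra hxa
    have hx2 := hint t (by omega) x hxa
    have hx0 := hoff t x hxa hxj hxne
    have hcard : k + 1 + 2 ≤ n := by
      have hvx : ∀ a, T.IsMinusTwo (cons x v hx0 a) := fun a => by
        induction a using Fin.cases with
        | zero => exact hx2
        | succ i => exact hv i
      exact hroom _ hvx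
    by_cases h2 : 2 ≤ t.val
    · exact branch_long T v (by omega) hcard hc hv x hx2 hx0 t h2 (by omega) hxa
    have hto : t = o := Fin.ext (by omega)
    by_cases hy : ∃ y, y ≠ v 0 ∧ y ≠ v o ∧ T.a (v 0) y ≠ 0
    · obtain ⟨y, h1, h2', h3⟩ := hy
      obtain ⟨hy2, h, hcy, hvy⟩ := hlong y h1 h2' h3
      have hxy : y ≠ x := fun e => by
        subst e
        refine hxa ?_
        have := chain_far T (hroom _ hvy) hvy hcy 0 o.succ (by simp [ho])
        rw [cons_zero, cons_succ] at this
        rw [hto, symm' T]; exact this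
      have hxc : ∀ a, cons y v h a ≠ x := fun a => by
        induction a using Fin.cases with
        | zero => exact hxy
        | succ i => exact hx0 i
      have hvxy : ∀ a, T.IsMinusTwo (cons x (cons y v h) hxc a) := fun a => by
        induction a using Fin.cases with
        | zero => exact hx2
        | succ i => exact hvy i
      exact branch_long T _ (by omega) (hroom _ hvxy) hcy hvy x hx2 hxc t.succ (by simp; omega) (by simp; omega)
        (by rw [cons_succ]; exact hxa)
    push Not at hy
    have h := row_exact1 T (hv 0) (v.injective.ne (Fin.ne_of_val_ne (by simp [ho]))) hy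
    rw [h01.2] at h
    have := mul_left_cancel₀ (T.w_pos (v 0)).ne' (show W * T.m (v o) = W * (2 * T.m (v 0)) by linear_combination h)
    have := T.m_pos (v 0)
    linarith
  -- linearity
  set d := T.m (v 0) - T.m (v o) with hd
  have hlin : ∀ t : ℕ, ∀ a : Fin (k + 1), a.val = t → t < k → T.m (v a) = T.m (v 0) - t * d := by
    intro t
    induction t using Nat.strong_induction_on with
    | _ t ih =>
      intro a ha htk
      match t with
      | 0 => rw [show a = 0 from Fin.ext (by simp [ha])]; simp
      | 1 => rw [show a = o from Fin.ext (by omega)]; simp [hd]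
      | s + 2 =>
        let b : Fin (k + 1) := ⟨s + 1, by omega⟩
        let c : Fin (k + 1) := ⟨s, by omega⟩
        have hb : b.val = s + 1 := rfl
        have hc' : c.val = s := rfl
        have h := row_exact2 T (hv b) (p := v c) (q := v a) (v.injective.ne (Fin.ne_of_val_ne (by omega)))
          (v.injective.ne (Fin.ne_of_val_ne (by omega))) (v.injective.ne (Fin.ne_of_val_ne (by omega)))
          fun x h1 h2 h3 => hno b (by omega) (by omega) x h1 fun j hj e => by
            rcases hj with g | g
            · rw [show j = a from Fin.ext (by omega)] at e; exact h3 e.symm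
            · rw [show j = c from Fin.ext (by omega)] at e; exact h2 e.symm
        rw [symm' T (v b) (v c), (hsim c b (by omega) (by omega)).2, (hsim b a (by omega) (by omega)).2,
          hw b (by omega), hw c (by omega), ih s (by omega) c rfl (by omega),
          ih (s + 1) (by omega) b rfl (by omega)] at h
        refine mul_left_cancel₀ (T.w_pos (v 0)).ne' ?_
        push_cast at h ⊢
        linear_combination h
  have hdpos : 0 < d := by omega
  -- the other neighbours of the first index
  let X : Finset (Fin n) := univ.filter fun x => x ≠ v 0 ∧ x ≠ v o ∧ T.a (v 0) x ≠ 0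
  have hX : ∀ x ∈ X, x ≠ v 0 ∧ x ≠ v o ∧ T.a (v 0) x ≠ 0 := fun x hx => (mem_filter.mp hx).2
  have hrow := row_exact T (hv 0) (insert (v o) X) (by simp [X, v.injective.eq_iff, Fin.ext_iff, ho])
    fun j h1 h2 => by
      by_contra g
      exact h2 (mem_insert.mpr (or_iff_not_imp_left.mpr fun g' => mem_filter.mpr ⟨mem_univ _, h1, g', g⟩))
  rw [sum_insert (by simp [X]), h01.2] at hrow
  by_cases hX2 : 1 < X.card
  · -- at least two further neighbours, all of them leaves
    have hval : ∀ x ∈ X, 2 * (T.a (v 0) x * T.m x) = W * T.m (v 0) := by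
      intro x hx
      obtain ⟨h1, h2, h3⟩ := hX x hx
      obtain ⟨x', hx', hne⟩ := exists_mem_ne hX2 x
      obtain ⟨h1', h2', h3'⟩ := hX x' hx'
      obtain ⟨hx2, h, hcx, hvx⟩ := hlong x h1 h2 h3
      obtain ⟨hx2', -⟩ := hlong x' h1' h2' h3'
      have hs : Simple T (v 0) x := branch T (by omega) (Ne.symm h1) (Ne.symm h1')
        (v.injective.ne (Fin.ne_of_val_ne (by simp [ho]))) hne.symm h2 h2' (hv 0) hx2 hx2' (hv o) h3 h3' e01
      by_cases hy : ∃ y, y ≠ x ∧ y ≠ v 0 ∧ T.a x y ≠ 0
      · exfalso
        obtain ⟨y, g1, g2, g3⟩ := hy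
        have hy2 := hnb x h1 h3 y g3
        have hyc : ∀ a, cons x v h a ≠ y := fun a => by
          induction a using Fin.cases with
          | zero => exact g1.symm
          | succ i =>
            rw [cons_succ]
            intro e
            by_cases gi : i.val = 0
            · exact g2 (by rw [← e, show i = 0 from Fin.ext (by simpa using gi)])
            refine g3 ?_
            have := chain_far T (hroom _ hvx) hvx hcx 0 i.succ (by simp only [Fin.val_zero, Fin.val_succ]; omega)
            rw [cons_zero, cons_succ, e] at this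
            exact this
        have hvy : ∀ a, T.IsMinusTwo (cons y (cons x v h) hyc a) := fun a => by
          induction a using Fin.cases with
          | zero => exact hy2
          | succ i => exact hvx i
        have hcy : IsChain T (cons y (cons x v h) hyc) := isChain_cons hcx fun i hi => by
          rw [show i = 0 from Fin.ext (by simpa using hi), cons_zero, symm' T]; exact g3
        have hx'c : ∀ a, cons y (cons x v h) hyc a ≠ x' := fun a => by
          induction a using Fin.cases with
          | zero =>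
            rw [cons_zero]
            intro e
            have := chain_far T (hroom _ hvy) hvy hcy 0 (Fin.succ (Fin.succ 0)) (by simp only [Fin.val_zero, Fin.val_succ]; omega)
            rw [cons_zero, cons_succ, cons_succ, e] at this
            exact h3' (by rw [symm' T]; exact this)
          | succ i =>
            induction i using Fin.cases with
            | zero => exact hne.symm
            | succ i =>
              rw [cons_succ, cons_succ]
              intro e
              refine h3' ?_
              by_cases g0 : i.val = 0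
              · exact absurd (by rw [← e, show i = 0 from Fin.ext (by simpa using g0)]) h1'
              by_cases g1' : i.val = 1
              · exact absurd (by rw [← e, show i = o from Fin.ext (by omega)]) h2'
              have := chain_far T hkn hv hc 0 i (by simp only [Fin.val_zero]; omega)
              rwa [e] at this
        have hvxy : ∀ a, T.IsMinusTwo (cons x' (cons y (cons x v h) hyc) hx'c a) := fun a => by
          induction a using Fin.cases with
          | zero => exact hx2'
          | succ i => exact hvy i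
        exact branch_long T _ (by omega) (hroom _ hvxy) hcy hvy x' hx2' hx'c (Fin.succ (Fin.succ 0))
          (by simp only [Fin.val_zero, Fin.val_succ]; omega) (by simp only [Fin.val_zero, Fin.val_succ]; omega) (by rw [cons_succ, cons_succ]; exact h3')
      push Not at hy
      have hr := row_exact1 T hx2 h1 hy
      rw [symm' T, hs.2, hs.1] at hr
      rw [hs.2, hr]; ring
    have hsum : 2 * ∑ x ∈ X, T.a (v 0) x * T.m x = X.card * (W * T.m (v 0)) := by
      rw [mul_sum, sum_congr rfl hval, sum_const, nsmul_eq_mul]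
    have key : (X.card : ℤ) * T.m (v 0) + 2 * T.m (v o) = 4 * T.m (v 0) :=
      mul_left_cancel₀ (T.w_pos (v 0)).ne' (by linear_combination 2 * hrow - hsum)
    let p : Fin (k + 1) := ⟨2, by omega⟩
    have h2m := hlin 2 p rfl (by omega)
    have := T.m_pos (v p)
    have := T.m_pos (v 0)
    rcases Nat.lt_or_ge X.card 3 with g | g
    · have : (X.card : ℤ) = 2 := by omega
      rw [this] at key
      linarith
    · have : (3 : ℤ) ≤ X.card := by exact_mod_cast g
      push_cast at h2m
      nlinarith
  rcases X.eq_empty_or_nonempty with hX0 | ⟨x, hx⟩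
  · rw [hX0, sum_empty, add_zero] at hrow
    have := mul_left_cancel₀ (T.w_pos (v 0)).ne' (show W * T.m (v o) = W * (2 * T.m (v 0)) by linear_combination hrow)
    have := T.m_pos (v 0)
    linarith
  obtain ⟨h1, h2, h3⟩ := hX x hx
  obtain ⟨hx2, h, hcx, hvx⟩ := hlong x h1 h2 h3
  rw [show X = {x} from (eq_singleton_iff_unique_mem.mpr ⟨hx, fun y hy => card_le_one.mp (by omega) y hy x hx⟩),
    sum_singleton, symm' T (v 0) x] at hrow
  have hM := hmax x hx2
  have hmx := T.m_pos x
  have hmd : T.a x (v 0) * T.m x = W * (T.m (v 0) + d) := by rw [hd]; linear_combination hrow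
  have hWd := mul_pos (T.w_pos (v 0)) hdpos
  have hedge := chain_edge T (by omega) (by omega) hvx hcx 0 (Fin.succ 0) (by simp)
  rw [cons_zero, cons_succ] at hedge
  rcases hedge with hs | hd2
  · rw [hs.2] at hmd; nlinarith
  by_cases hy : ∃ y, y ≠ x ∧ y ≠ v 0 ∧ T.a x y ≠ 0
  · obtain ⟨y, g1, g2, g3⟩ := hy
    have hy2 := hnb x h1 h3 y g3
    have hyc : ∀ a, cons x v h a ≠ y := fun a => by
      induction a using Fin.cases with
      | zero => exact g1.symm
      | succ i =>
        rw [cons_succ]
        intro e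
        by_cases gi : i.val = 0
        · exact g2 (by rw [← e, show i = 0 from Fin.ext (by simpa using gi)])
        refine g3 ?_
        have := chain_far T (hroom _ hvx) hvx hcx 0 i.succ (by simp only [Fin.val_zero, Fin.val_succ]; omega)
        rw [cons_zero, cons_succ, e] at this
        exact this
    have hvy : ∀ a, T.IsMinusTwo (cons y (cons x v h) hyc a) := fun a => by
      induction a using Fin.cases with
      | zero => exact hy2
      | succ i => exact hvx i
    have hcy : IsChain T (cons y (cons x v h) hyc) := isChain_cons hcx fun i hi => by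
      rw [show i = 0 from Fin.ext (by simpa using hi), cons_zero, symm' T]; exact g3
    have hs := chain_inner_simple T (by omega) (hroom _ hvy) hvy hcy (Fin.succ 0) (Fin.succ (Fin.succ 0))
      (by simp only [Fin.val_zero, Fin.val_succ]) (by simp only [Fin.val_zero, Fin.val_succ]; omega) (by simp only [Fin.val_zero, Fin.val_succ]; omega)
    rw [cons_succ, cons_zero, cons_succ, cons_succ] at hs
    exact not_simple_of_double hd2 hs
  push Not at hy
  have hr := row_exact1 T hx2 h1 hy
  obtain ⟨P, Q, hPQ, hP, hQ, hA, hB⟩ := hd2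
  have hPc : P = 1 ∨ P = 2 := by
    have : P ≤ 2 := by nlinarith
    omega
  rcases hPc with rfl | rfl
  · rw [hA] at hmd; nlinarith
  · obtain rfl : Q = 1 := by linarith
    rw [hB, one_mul] at hmd hr
    rw [one_mul] at hB
    rw [hB] at hA
    nlinarith

/-- Every `(-2)`-index is joined to an exit. -/
lemma exists_chain_exit (hne : ∃ j, ¬ T.IsMinusTwo j) (i : Fin n) (hi : T.IsMinusTwo i) :
    ∃ (k : ℕ) (v : Fin (k + 1) ↪ Fin n), IsChain T v ∧ (∀ a, T.IsMinusTwo (v a)) ∧ v 0 = i ∧
      Exit T (v (Fin.last k)) := by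
  classical
  by_contra hi'
  let I : Finset (Fin n) := univ.filter fun r => T.IsMinusTwo r ∧ ¬ ∃ (k : ℕ) (v : Fin (k + 1) ↪ Fin n),
    IsChain T v ∧ (∀ a, T.IsMinusTwo (v a)) ∧ v 0 = r ∧ Exit T (v (Fin.last k))
  obtain ⟨j, hj⟩ := hne
  obtain ⟨a, ha, b, hb, hab⟩ := T.connected I ⟨i, mem_filter.mpr ⟨mem_univ _, hi, hi'⟩⟩
    fun e => hj (mem_filter.mp (e ▸ mem_univ j : j ∈ I)).2.1
  obtain ⟨ha2, ha'⟩ := (mem_filter.mp ha).2
  by_cases hb2 : T.IsMinusTwo b
  · obtain ⟨k, v, hc, hv, hv0, hex⟩ : ∃ (k : ℕ) (v : Fin (k + 1) ↪ Fin n),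
        IsChain T v ∧ (∀ a, T.IsMinusTwo (v a)) ∧ v 0 = b ∧ Exit T (v (Fin.last k)) := by
      by_contra g; exact hb (mem_filter.mpr ⟨mem_univ _, hb2, g⟩)
    by_cases hon : ∃ t, v t = a
    · obtain ⟨t, rfl⟩ := hon
      refine ha' ⟨k - t.val, seg v t.val (k - t.val + 1) (by omega), isChain_seg hc _ _ _, fun _ => hv _, ?_, ?_⟩
      · rw [seg_apply]; exact congrArg v (Fin.ext (by simp))
      · rw [seg_apply, show (⟨t.val + (Fin.last (k - t.val)).val, by simp; omega⟩ : Fin (k + 1)) = Fin.last k from
          Fin.ext (by simp; omega)]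
        exact hex
    push Not at hon
    refine ha' ⟨k + 1, cons a v hon, isChain_cons hc fun i hi => ?_, fun x => ?_, rfl, ?_⟩
    · rw [show i = 0 from Fin.ext (by simpa using hi), hv0]; exact hab
    · induction x using Fin.cases with
      | zero => exact ha2
      | succ i => exact hv i
    · rw [← Fin.succ_last, cons_succ]; exact hex
  · refine ha' ⟨0, ⟨fun _ => a, fun x y _ => Fin.ext (by omega)⟩, fun x y h => absurd h (by omega),
      fun _ => ha2, rfl, b, hb2, hab⟩

/-- On a chain `m * w` at most doubles at each step. -/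
lemma chain_mul_le (v : Fin (k + 1) ↪ Fin n) (hc : IsChain T v) (hv : ∀ a, T.IsMinusTwo (v a)) :
    ∀ s : ℕ, ∀ a : Fin (k + 1), a.val + s = k →
      T.m (v a) * T.w (v a) ≤ 2 ^ s * (T.m (v (Fin.last k)) * T.w (v (Fin.last k))) := by
  intro s
  induction s with
  | zero => intro a ha; rw [show a = Fin.last k from Fin.ext (by simpa using ha)]; simp
  | succ s ih =>
    intro a ha
    let b : Fin (k + 1) := ⟨a.val + 1, by omega⟩
    have hb : b.val = a.val + 1 := rfl
    have hne : v a ≠ v b := v.injective.ne (Fin.ne_of_val_ne (by omega))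
    have h1 := ih b (by omega)
    have h2 := le_row T (i := v b) (j := v a) hne.symm
    rw [(hv b).2, symm' T] at h2
    have h3 := (w_le T hne (hc a b hb)).1
    have := mul_le_mul_of_nonneg_right h3 (T.m_pos (v a)).le
    rw [pow_succ]
    linarith

/-- For minimal types of genus at least two `m * w` is bounded on the `(-2)`-indices. -/
theorem minusTwo_bound (hmin : T.IsMinimal) (hn : 1 < n) (hg : 2 ≤ T.genus) (i : Fin n)
    (hi : T.IsMinusTwo i) : T.m i * T.w i ≤ 64 * (6 * T.genus - 6) := by
  classical
  have hne : ∃ j, ¬ T.IsMinusTwo j := by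
    by_contra g
    push Not at g
    have h := two_genus T
    rw [sum_eq_zero fun j _ => by rw [contrib_of_minusTwo T (g j), mul_zero]] at h
    linarith
  let S : Finset (Fin n) := univ.filter fun r => T.IsMinusTwo r
  obtain ⟨i', hi', hmax⟩ := S.exists_max_image (fun r => T.m r * T.w r) ⟨i, by simp [S, hi]⟩
  refine (hmax i (by simp [S, hi])).trans ?_
  have hi2 : T.IsMinusTwo i' := (mem_filter.mp hi').2
  have hmax' : ∀ r, T.IsMinusTwo r → T.m r * T.w r ≤ T.m i' * T.w i' := fun r hr => hmax r (by simp [S, hr])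
  let P : ℕ → Prop := fun k => ∃ v : Fin (k + 1) ↪ Fin n, IsChain T v ∧ (∀ a, T.IsMinusTwo (v a)) ∧
    T.m (v 0) * T.w (v 0) = T.m i' * T.w i' ∧ Exit T (v (Fin.last k))
  have hP : ∃ k, P k := by
    obtain ⟨k, v, h1, h2, h3, h4⟩ := exists_chain_exit T hne i' hi2
    exact ⟨k, v, h1, h2, by rw [h3], h4⟩
  obtain ⟨k, ⟨v, hc, hv, h0, hex⟩, hk⟩ : ∃ k, P k ∧ ∀ l, l < k → ¬ P l :=
    ⟨Nat.find hP, Nat.find_spec hP, fun l => Nat.find_min hP⟩
  obtain ⟨j, hj, hja⟩ := hex
  by_cases hk6 : k ≤ 6
  · rw [← h0]
    refine (chain_mul_le T v hc hv k 0 (by simp)).trans ?_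
    have hu := ((S2183.result T hmin hn hg).2 j hj).2.2 (v (Fin.last k))
    have h1 := (w_le T (fun (e : v (Fin.last k) = j) => hj (e ▸ hv _)) hja).1
    have h2 := mul_le_mul_of_nonneg_left h1 (T.m_pos (v (Fin.last k))).le
    calc (2 : ℤ) ^ k * (T.m (v (Fin.last k)) * T.w (v (Fin.last k)))
        ≤ 2 ^ 6 * (T.m (v (Fin.last k)) * T.w (v (Fin.last k))) :=
          mul_le_mul_of_nonneg_right (pow_le_pow_right₀ (by norm_num) hk6)
            (mul_pos (T.m_pos _) (T.w_pos _)).le
      _ ≤ _ := by norm_num; linarith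
  exfalso
  let o : Fin (k + 1) := ⟨1, by omega⟩
  refine far_bound T v (by omega) hc hv j hj ?_ ?_ (fun r hr => h0 ▸ hmax' r hr) o rfl ?_
  · intro t ht r hr
    by_contra g
    refine hk t.val ht ⟨seg v 0 (t.val + 1) (by omega), isChain_seg hc _ _ _, fun _ => hv _, ?_, r, g, ?_⟩
    · rw [seg_apply]; exact (by simpa using h0)
    · rw [seg_apply, show (⟨0 + (Fin.last t.val).val, by simp; omega⟩ : Fin (k + 1)) = t from Fin.ext (by simp)]
      exact hr
  · intro x hx hxa y hy
    by_contra g
    have hx2 : T.IsMinusTwo x := by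
      by_contra g'
      exact hk 0 (by omega) ⟨⟨fun _ => v 0, fun a b _ => Fin.ext (by omega)⟩, fun a b h => absurd h (by omega),
        fun _ => hv _, h0, x, g', hxa⟩
    let u : Fin 2 ↪ Fin n := ⟨![v 0, x], fun a b h => by
      fin_cases a <;> fin_cases b <;> simp_all [eq_comm]⟩
    refine hk 1 (by omega) ⟨u, fun a b h => ?_, fun a => ?_, h0, y, g, hy⟩
    · rw [show a = 0 from Fin.ext (by simp; omega), show b = 1 from Fin.ext (by simp; omega)]; exact hxa
    · fin_cases a
      · exact hv 0
      · exact hx2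
  · rw [h0]
    refine lt_of_le_of_ne (hmax' _ (hv o)) fun g => ?_
    refine hk (k - 1) (by omega) ⟨seg v 1 (k - 1 + 1) (by omega), isChain_seg hc _ _ _, fun _ => hv _, ?_, ?_⟩
    · rw [seg_apply]; exact g
    · rw [seg_apply, show (⟨1 + (Fin.last (k - 1)).val, by simp; omega⟩ : Fin (k + 1)) = Fin.last k from
        Fin.ext (by simp; omega)]
      exact ⟨j, hj, hja⟩

end Groth.Agent.NumType
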