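import Groth.Agent.NumType.Extra
import Mathlib.LinearAlgebra.Quotient.Basic

/-!
Contraction of a `(-1)`-index of a numerical type.
-/

set_option autoImplicit false

open Finset Models

namespace Groth.Agent.NumType

variable {n : ℕ} (T : NumericalType (n + 1))

section

variable (h : T.IsMinusOne (Fin.last n))

/-- The weight after contraction. -/
def cw (i : Fin n) : ℤ :=
  if 2 ∣ T.a i.castSucc (Fin.last n) / T.w (Fin.last n) ∧
      ¬ 2 ∣ T.a i.castSucc (Fin.last n) / T.w i.castSucc
  then T.w i.castSucc / 2 else T.w i.castSucc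

/-- The matrix after contraction. -/
def ca : Matrix (Fin n) (Fin n) ℤ := fun i j => T.a i.castSucc j.castSucc -
  T.a i.castSucc (Fin.last n) * T.a j.castSucc (Fin.last n) / T.a (Fin.last n) (Fin.last n)

/-- The genera after contraction. -/
def cg (i : Fin n) : ℤ := T.w i.castSucc / cw T i * (T.g i.castSucc - 1) + 1 +
  (T.a i.castSucc (Fin.last n) ^ 2 - T.w (Fin.last n) * T.a i.castSucc (Fin.last n)) /
    (2 * cw T i * T.w (Fin.last n))

lemma last_entry (i : Fin n) :
    ∃ c, 0 ≤ c ∧ T.a i.castSucc (Fin.last n) = c * T.w (Fin.last n) ∧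
      T.a i.castSucc (Fin.last n) / T.w (Fin.last n) = c := by
  obtain ⟨c, hc⟩ := w_dvd' T i.castSucc (Fin.last n)
  have hw := T.w_pos (Fin.last n)
  have := T.offDiag_nonneg i.castSucc (Fin.last n) i.castSucc_lt_last.ne
  refine ⟨c, by nlinarith, by rw [hc]; ring, ?_⟩
  rw [hc, Int.mul_ediv_cancel_left _ hw.ne']

lemma cw_cases (i : Fin n) :
    (cw T i = T.w i.castSucc ∧
        (2 ∣ T.a i.castSucc (Fin.last n) / T.w (Fin.last n) → 2 ∣ T.a i.castSucc (Fin.last n) / T.w i.castSucc)) ∨
      (T.w i.castSucc = 2 * cw T i ∧ 2 ∣ T.a i.castSucc (Fin.last n) / T.w (Fin.last n) ∧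
        ¬ 2 ∣ T.a i.castSucc (Fin.last n) / T.w i.castSucc) := by
  by_cases g : 2 ∣ T.a i.castSucc (Fin.last n) / T.w (Fin.last n) ∧
      ¬ 2 ∣ T.a i.castSucc (Fin.last n) / T.w i.castSucc
  · right
    obtain ⟨c, -, hc, hc'⟩ := last_entry T i
    obtain ⟨d, hd⟩ := T.w_dvd i.castSucc (Fin.last n)
    have hw := T.w_pos i.castSucc
    have hd' : T.a i.castSucc (Fin.last n) / T.w i.castSucc = d := by rw [hd, Int.mul_ediv_cancel_left _ hw.ne']
    obtain ⟨g1, g2⟩ := g
    have g3 : 2 ∣ c := hc' ▸ g1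
    have g4 : ¬ 2 ∣ d := hd' ▸ g2
    have : 2 ∣ T.w i.castSucc := by
      have hev : Even (T.w i.castSucc * d) := even_iff_two_dvd.mpr (by rw [← hd, hc]; exact dvd_mul_of_dvd_left g3 _)
      exact even_iff_two_dvd.mp ((Int.even_mul.mp hev).resolve_right fun g => g4 (even_iff_two_dvd.mp g))
    refine ⟨?_, g1, g2⟩
    rw [cw, if_pos ⟨g1, g2⟩]
    exact (Int.mul_ediv_cancel' this).symm
  · left
    exact ⟨if_neg g, fun g1 => by_contra fun g2 => g ⟨g1, g2⟩⟩

lemma cw_pos (i : Fin n) : 0 < cw T i := by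
  have := T.w_pos i.castSucc
  rcases cw_cases T i with ⟨e, -⟩ | ⟨e, -, -⟩ <;> omega

lemma cw_dvd (i : Fin n) : cw T i ∣ T.w i.castSucc := by
  rcases cw_cases T i with ⟨e, -⟩ | ⟨e, -, -⟩
  · rw [e]
  · exact ⟨2, by rw [e]; ring⟩

include h

lemma ca_apply (i j : Fin n) :
    ca T i j = T.a i.castSucc j.castSucc +
      T.a i.castSucc (Fin.last n) / T.w (Fin.last n) * T.a j.castSucc (Fin.last n) := by
  obtain ⟨c, -, hc, hc'⟩ := last_entry T i
  have hw := T.w_pos (Fin.last n)
  rw [ca, h.2, hc', hc, show c * T.w (Fin.last n) * T.a j.castSucc (Fin.last n) =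
    (-T.w (Fin.last n)) * (-(c * T.a j.castSucc (Fin.last n))) by ring, Int.mul_ediv_cancel_left _ (by omega)]
  ring

lemma ca_symm (i j : Fin n) : ca T i j = ca T j i := by
  rw [ca, ca, symm' T i.castSucc j.castSucc, mul_comm (T.a i.castSucc (Fin.last n))]

lemma ca_ge {i j : Fin n} :
    T.a i.castSucc j.castSucc ≤ ca T i j := by
  rw [ca_apply T h]
  obtain ⟨c, hc0, -, hc'⟩ := last_entry T i
  rw [hc']
  have := T.offDiag_nonneg j.castSucc (Fin.last n) j.castSucc_lt_last.ne
  nlinarith

lemma ca_pos {i j : Fin n} (hne : i ≠ j) (hi : T.a i.castSucc (Fin.last n) ≠ 0)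
    (hj : T.a j.castSucc (Fin.last n) ≠ 0) : 0 < ca T i j := by
  rw [ca_apply T h]
  obtain ⟨c, hc0, hc, hc'⟩ := last_entry T i
  rw [hc']
  have h1 := T.offDiag_nonneg i.castSucc j.castSucc (fun e => hne (Fin.castSucc_injective _ e))
  have h2 := T.offDiag_nonneg j.castSucc (Fin.last n) j.castSucc_lt_last.ne
  have h3 : 0 < c := lt_of_le_of_ne hc0 fun e => hi (by rw [hc, ← e, zero_mul])
  have : 0 < T.a j.castSucc (Fin.last n) := lt_of_le_of_ne h2 (Ne.symm hj)
  nlinarith

lemma pos_of_minusOne : 0 < n := by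
  rcases Nat.eq_zero_or_pos n with rfl | hn
  · exfalso
    have := row T (Fin.last 0)
    rw [Fin.sum_univ_one, show (0 : Fin 1) = Fin.last 0 from rfl, h.2] at this
    have := T.w_pos (Fin.last 0)
    have := T.m_pos (Fin.last 0)
    nlinarith
  · exact hn

/-- The contracted numerical type. -/
def contract : NumericalType n where
  m i := T.m i.castSucc
  a := ca T
  w := cw T
  g := cg T
  pos := pos_of_minusOne T h
  m_pos i := T.m_pos _
  w_pos := cw_pos T
  g_nonneg i := by
    obtain ⟨c, hc0, hc, hc'⟩ := last_entry T i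
    obtain ⟨d, hd⟩ := T.w_dvd i.castSucc (Fin.last n)
    have hw := T.w_pos i.castSucc
    have hd' : T.a i.castSucc (Fin.last n) / T.w i.castSucc = d := by rw [hd, Int.mul_ediv_cancel_left _ hw.ne']
    have hd0 : 0 ≤ d := by
      have := T.offDiag_nonneg i.castSucc (Fin.last n) i.castSucc_lt_last.ne
      nlinarith
    have hg := T.g_nonneg i.castSucc
    have hwl := T.w_pos (Fin.last n)
    have hcw := cw_pos T i
    have hnum : T.a i.castSucc (Fin.last n) ^ 2 - T.w (Fin.last n) * T.a i.castSucc (Fin.last n) =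
        T.w i.castSucc * T.w (Fin.last n) * (d * (c - 1)) := by
      have e : c * T.w (Fin.last n) = T.w i.castSucc * d := hc ▸ hd
      rw [hc]
      linear_combination (T.w (Fin.last n) * (c - 1)) * e
    rw [cg, hnum]
    rcases cw_cases T i with ⟨e, he⟩ | ⟨e, he1, he2⟩
    · rw [e, Int.ediv_self hw.ne', one_mul]
      rw [hc', hd'] at he
      have h2 : 2 ∣ d * (c - 1) := by
        rcases Int.even_or_odd c with hev | hod
        · exact dvd_mul_of_dvd_left (he (even_iff_two_dvd.mp hev)) _
        · exact dvd_mul_of_dvd_right (by obtain ⟨q, hq⟩ := hod; exact ⟨q, by rw [hq]; ring⟩) _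
      obtain ⟨q, hq⟩ := h2
      rw [hq, show T.w i.castSucc * T.w (Fin.last n) * (2 * q) = (2 * T.w i.castSucc * T.w (Fin.last n)) * q by ring,
        Int.mul_ediv_cancel_left _ (by positivity)]
      rcases eq_or_lt_of_le hc0 with g | g
      · have : d = 0 := by
          have e : c * T.w (Fin.last n) = T.w i.castSucc * d := hc ▸ hd
          rw [← g, zero_mul] at e
          exact (mul_eq_zero.mp e.symm).resolve_left hw.ne'
        rw [this, zero_mul] at hq
        omega
      · have : 0 ≤ d * (c - 1) := mul_nonneg hd0 (by omega)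
        omega
    · rw [hc', hd'] at *
      rw [e, Int.mul_ediv_cancel _ hcw.ne', show 2 * cw T i * T.w (Fin.last n) * (d * (c - 1)) =
        (2 * cw T i * T.w (Fin.last n)) * (d * (c - 1)) by ring, Int.mul_ediv_cancel_left _ (by positivity)]
      have hd1 : 1 ≤ d := by omega
      have hc1 : 1 ≤ c := by
        have e' : c * T.w (Fin.last n) = T.w i.castSucc * d := hc ▸ hd
        nlinarith
      have : 1 ≤ d * (c - 1) := by
        have : 1 ≤ c - 1 := by omega
        nlinarith
      omega
  symm := Matrix.IsSymm.ext fun i j => ca_symm T h j i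
  offDiag_nonneg i j hne :=
    le_trans (T.offDiag_nonneg _ _ fun e => hne (Fin.castSucc_injective _ e)) (ca_ge T h)
  connected I hI hI' := by
    let J := I.map Fin.castSuccEmb
    obtain ⟨x, hx, y, hy, hxy⟩ := T.connected J (hI.map) fun e => by
      have : Fin.last n ∈ J := e ▸ mem_univ _
      obtain ⟨q, -, hq⟩ := mem_map.mp this
      exact q.castSucc_lt_last.ne hq
    obtain ⟨i, hi, rfl⟩ := mem_map.mp hx
    obtain ⟨x', hx', y', hy', hxy'⟩ := T.connected ((Iᶜ : Finset (Fin n)).map Fin.castSuccEmb)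
      (Finset.Nonempty.map (nonempty_iff_ne_empty.mpr fun e => hI' (compl_eq_empty_iff I |>.mp e))) fun e => by
      have : Fin.last n ∈ (Iᶜ : Finset (Fin n)).map Fin.castSuccEmb := e ▸ mem_univ _
      obtain ⟨q, -, hq⟩ := mem_map.mp this
      exact q.castSucc_lt_last.ne hq
    obtain ⟨i', hi', rfl⟩ := mem_map.mp hx'
    rw [mem_compl] at hi'
    have edge : ∀ p q : Fin n, p ≠ q → T.a p.castSucc q.castSucc ≠ 0 → ca T p q ≠ 0 := fun p q hne e => by
      have := T.offDiag_nonneg _ _ fun e => hne (Fin.castSucc_injective _ e)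
      have := ca_ge T h (i := p) (j := q)
      omega
    induction y using Fin.lastCases with
    | cast j =>
      exact ⟨i, hi, j, fun e => hy (mem_map_of_mem _ e), edge i j (fun e => hy (e ▸ mem_map_of_mem _ hi)) hxy⟩
    | last =>
      induction y' using Fin.lastCases with
      | cast j =>
        have hj : j ∈ I := by
          by_contra g
          exact hy' (mem_map_of_mem _ (mem_compl.mpr g))
        exact ⟨j, hj, i', hi', edge j i' (fun e => hi' (by rw [← e]; exact hj)) (by rw [symm' T]; exact hxy')⟩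
      | last => exact ⟨i, hi, i', hi', (ca_pos T h (fun e => hi' (by rw [← e]; exact hi)) hxy hxy').ne'⟩
  mulVec_m := by
    funext i
    show ∑ j, ca T i j * T.m j.castSucc = 0
    have h1 := row T i.castSucc
    have h2 := row T (Fin.last n)
    rw [Fin.sum_univ_castSucc] at h1 h2
    rw [h.2] at h2
    rw [sum_congr rfl fun j _ => show ca T i j * T.m j.castSucc = T.a i.castSucc j.castSucc * T.m j.castSucc +
      T.a i.castSucc (Fin.last n) / T.w (Fin.last n) * (T.a (Fin.last n) j.castSucc * T.m j.castSucc) by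
        rw [ca_apply T h, symm' T (Fin.last n) j.castSucc]; ring, sum_add_distrib, ← mul_sum]
    obtain ⟨c, -, hc, hc'⟩ := last_entry T i
    rw [hc'] 
    rw [hc] at h1
    linear_combination h1 + c * h2
  w_dvd i j := by
    rw [ca_apply T h]
    refine dvd_add ((cw_dvd T i).trans (T.w_dvd _ _)) ?_
    obtain ⟨c, -, hc, hc'⟩ := last_entry T i
    obtain ⟨e, -, he, -⟩ := last_entry T j
    rw [hc', show c * T.a j.castSucc (Fin.last n) = e * T.a i.castSucc (Fin.last n) by rw [he, hc]; ring]
    exact dvd_mul_of_dvd_right ((cw_dvd T i).trans (T.w_dvd _ _)) _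

lemma contract_isContraction : T.IsContraction (contract T h) :=
  ⟨fun _ => rfl, fun _ _ => rfl, fun _ => rfl, fun _ => rfl⟩

lemma genus_eq_of_isContraction (T' : NumericalType n) (hT : T.IsContraction T') : T'.genus = T.genus := by
  obtain ⟨h1, h2, h3, h4⟩ := hT
  have key : ∀ i, contrib T' i = contrib T i.castSucc - T.a i.castSucc (Fin.last n) := by
    intro i
    obtain ⟨c, -, hc, hc'⟩ := last_entry T i
    obtain ⟨d, hd⟩ := T.w_dvd i.castSucc (Fin.last n)
    have hw := T.w_pos i.castSucc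
    have hd' : T.a i.castSucc (Fin.last n) / T.w i.castSucc = d := by rw [hd, Int.mul_ediv_cancel_left _ hw.ne']
    have hwl := T.w_pos (Fin.last n)
    have hcw := cw_pos T i
    have e' : c * T.w (Fin.last n) = T.w i.castSucc * d := hc ▸ hd
    have hnum : T.a i.castSucc (Fin.last n) ^ 2 - T.w (Fin.last n) * T.a i.castSucc (Fin.last n) =
        T.w i.castSucc * T.w (Fin.last n) * (d * (c - 1)) := by
      rw [hc]
      linear_combination (T.w (Fin.last n) * (c - 1)) * e'
    have hw' : T'.w i = cw T i := h3 i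
    have ha' : T'.a i i = ca T i i := h2 i i
    rw [contrib, contrib, h4 i, ha', ca_apply T h, hc', hnum, hw', hd]
    rcases cw_cases T i with ⟨e, he⟩ | ⟨e, -, -⟩
    · rw [e, Int.ediv_self hw.ne', one_mul]
      rw [hc', hd'] at he
      have h2 : 2 ∣ d * (c - 1) := by
        rcases Int.even_or_odd c with hev | hod
        · exact dvd_mul_of_dvd_left (he (even_iff_two_dvd.mp hev)) _
        · exact dvd_mul_of_dvd_right (by obtain ⟨q, hq⟩ := hod; exact ⟨q, by rw [hq]; ring⟩) _
      obtain ⟨q, hq⟩ := h2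
      rw [hq, show T.w i.castSucc * T.w (Fin.last n) * (2 * q) = (2 * T.w i.castSucc * T.w (Fin.last n)) * q by ring,
        Int.mul_ediv_cancel_left _ (by positivity)]
      linear_combination -(T.w i.castSucc) * hq
    · rw [e, Int.mul_ediv_cancel _ hcw.ne', show 2 * cw T i * T.w (Fin.last n) * (d * (c - 1)) =
        (2 * cw T i * T.w (Fin.last n)) * (d * (c - 1)) by ring, Int.mul_ediv_cancel_left _ (by positivity)]
      ring
  have hsum : ∑ i, T'.m i * contrib T' i = ∑ i, T.m i * contrib T i := by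
    rw [Fin.sum_univ_castSucc (fun i => T.m i * contrib T i)]
    simp only [key, h1, mul_sub, sum_sub_distrib]
    have h2 := row T (Fin.last n)
    rw [Fin.sum_univ_castSucc, h.2] at h2
    have e1 : contrib T (Fin.last n) = -T.w (Fin.last n) := by rw [contrib, h.1, h.2]; ring
    have e2 : ∑ i : Fin n, T.m i.castSucc * T.a i.castSucc (Fin.last n) =
        ∑ i : Fin n, T.a (Fin.last n) i.castSucc * T.m i.castSucc :=
      sum_congr rfl fun i _ => by rw [mul_comm, symm' T i.castSucc]
    rw [e1, e2]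
    linear_combination -h2
  have g1 := two_genus T'
  have g2 := two_genus T
  rw [hsum] at g1
  linarith

/-- The Picard group of `T` sits in that of a contraction with a cokernel killed by two. -/
lemma pic_embeds (T' : NumericalType n) (hT : T.IsContraction T') :
    ∃ f : T.Pic →ₗ[ℤ] T'.Pic, Function.Injective f ∧ ∀ y : T'.Pic, ∃ x : T.Pic, 2 • y = f x := by
  obtain ⟨-, h2, h3, -⟩ := hT
  let r : Fin n → ℤ := fun i => T.w i.castSucc / T'.w i
  let e : Fin n → ℤ := fun i => T.a i.castSucc (Fin.last n) / T'.w i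
  let F : (Fin (n + 1) → ℤ) →ₗ[ℤ] (Fin n → ℤ) :=
    { toFun := fun x i => r i * x i.castSucc + e i * x (Fin.last n)
      map_add' := fun x y => funext fun i => by simp only [Pi.add_apply]; ring
      map_smul' := fun c x => funext fun i => by simp only [Pi.smul_apply, smul_eq_mul, RingHom.id_apply]; ring }
  have hdvd : ∀ i, T'.w i ∣ T.w i.castSucc := fun i => by
    rw [show T'.w i = cw T i from h3 i]; exact cw_dvd T i
  have hr : ∀ i, T'.w i * r i = T.w i.castSucc := fun i => Int.mul_ediv_cancel' (hdvd i)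
  have he : ∀ i, T'.w i * e i = T.a i.castSucc (Fin.last n) := fun i =>
    Int.mul_ediv_cancel' ((hdvd i).trans (T.w_dvd _ _))
  have hF : ∀ x i, T'.w i * F x i = T.w i.castSucc * x i.castSucc + T.a i.castSucc (Fin.last n) * x (Fin.last n) :=
    fun x i => by
      show T'.w i * (r i * x i.castSucc + e i * x (Fin.last n)) = _
      rw [← hr i, ← he i]; ring
  have hP : ∀ {l : ℕ} (S : NumericalType l) y i, S.w i * S.picMatrix.mulVec y i = ∑ j, S.a i j * y j :=
    fun S y i => (congrFun (a_mulVec_eq S y) i).symm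
  have ha' : ∀ i j, T'.a i j = T.a i.castSucc j.castSucc +
      T.a i.castSucc (Fin.last n) / T.w (Fin.last n) * T.a j.castSucc (Fin.last n) := fun i j =>
    (h2 i j).trans (ca_apply T h i j)
  have hrow : ∀ (y : Fin n → ℤ) (i : Fin n), ∑ j, T'.a i j * y j = ∑ j : Fin n, T.a i.castSucc j.castSucc * y j +
      T.a i.castSucc (Fin.last n) / T.w (Fin.last n) * ∑ j : Fin n, T.a (Fin.last n) j.castSucc * y j := by
    intro y i
    rw [mul_sum, ← sum_add_distrib]
    exact sum_congr rfl fun j _ => by rw [ha', symm' T (Fin.last n) j.castSucc]; ring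
  have hle : LinearMap.range T.picMatrix.mulVecLin ≤ (LinearMap.range T'.picMatrix.mulVecLin).comap F := by
    rintro _ ⟨y, rfl⟩
    refine ⟨fun j => y j.castSucc, funext fun i => mul_left_cancel₀ (T'.w_pos i).ne' ?_⟩
    rw [Matrix.mulVecLin_apply, hP, hrow, hF]
    simp only [Matrix.mulVecLin_apply]
    rw [hP T y i.castSucc]
    obtain ⟨c, -, hc, hc'⟩ := last_entry T i
    have hlast := hP T y (Fin.last n)
    rw [Fin.sum_univ_castSucc, h.2] at hlast
    rw [Fin.sum_univ_castSucc, hc', hc]
    linear_combination -c * hlast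
  refine ⟨(LinearMap.range T.picMatrix.mulVecLin).mapQ _ F hle, ?_, ?_⟩
  · rw [injective_iff_map_eq_zero]
    intro z hz
    obtain ⟨x, rfl⟩ := Submodule.Quotient.mk_surjective _ z
    rw [Submodule.mapQ_apply, Submodule.Quotient.mk_eq_zero] at hz
    rw [Submodule.Quotient.mk_eq_zero]
    obtain ⟨y, hy⟩ := hz
    let c : Fin n → ℤ := fun j => T.a j.castSucc (Fin.last n) / T.w (Fin.last n)
    have hcy : T.w (Fin.last n) * ∑ j, c j * y j = ∑ j : Fin n, T.a (Fin.last n) j.castSucc * y j := by
      rw [mul_sum]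
      refine sum_congr rfl fun j _ => ?_
      obtain ⟨q, -, hq, hq'⟩ := last_entry T j
      simp only [c, hq']
      rw [symm' T, hq]; ring
    refine ⟨Fin.snoc y (∑ j, c j * y j - x (Fin.last n)), funext fun i => mul_left_cancel₀ (T.w_pos i).ne' ?_⟩
    rw [Matrix.mulVecLin_apply, hP, Fin.sum_univ_castSucc]
    simp only [Fin.snoc_castSucc, Fin.snoc_last]
    induction i using Fin.lastCases with
    | last => rw [h.2]; linear_combination -hcy
    | cast i =>
      have hi : T'.w i * T'.picMatrix.mulVec y i = T'.w i * F x i := by rw [← hy]; rfl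
      rw [hP, hrow, hF] at hi
      obtain ⟨q, -, hq, hq'⟩ := last_entry T i
      rw [hq', hq] at hi
      rw [hq]
      linear_combination hi + q * hcy
  · intro y
    obtain ⟨y, rfl⟩ := Submodule.Quotient.mk_surjective _ y
    have h2r : ∀ i, r i = 1 ∨ r i = 2 := fun i => by
      show T.w i.castSucc / T'.w i = 1 ∨ T.w i.castSucc / T'.w i = 2
      rw [show T'.w i = cw T i from h3 i]
      have hcw := cw_pos T i
      rcases cw_cases T i with ⟨g, -⟩ | ⟨g, -, -⟩
      · left; rw [g]; exact Int.ediv_self (T.w_pos _).ne'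
      · right; rw [g]; exact Int.mul_ediv_cancel _ hcw.ne'
    refine ⟨Submodule.Quotient.mk (Fin.snoc (fun i => 2 / r i * y i) 0), ?_⟩
    rw [Submodule.mapQ_apply, ← Submodule.Quotient.mk_smul]
    congr 1
    funext i
    show 2 • y i = r i * _ + e i * _
    simp only [Fin.snoc_castSucc, Fin.snoc_last, mul_zero, add_zero, nsmul_eq_mul]
    rcases h2r i with g | g <;> rw [g] <;> push_cast <;> ring

end

/-- Renumber the indices. -/
def reindex {n : ℕ} (T : NumericalType n) (σ : Equiv.Perm (Fin n)) : NumericalType n where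
  m i := T.m (σ i)
  a := fun i j => T.a (σ i) (σ j)
  w i := T.w (σ i)
  g i := T.g (σ i)
  pos := T.pos
  m_pos i := T.m_pos _
  w_pos i := T.w_pos _
  g_nonneg i := T.g_nonneg _
  symm := Matrix.IsSymm.ext fun i j => symm' T _ _
  offDiag_nonneg i j h := T.offDiag_nonneg _ _ (σ.injective.ne h)
  connected I hI hI' := by
    obtain ⟨x, hx, y, hy, hxy⟩ := T.connected (I.map σ.toEmbedding) hI.map fun e => hI' (by
      rw [← map_univ_equiv σ] at e; exact map_injective _ e)
    obtain ⟨i, hi, rfl⟩ := mem_map.mp hx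
    refine ⟨i, hi, σ.symm y, fun g => hy ?_, by simpa using hxy⟩
    simpa using mem_map_of_mem σ.toEmbedding g
  mulVec_m := funext fun i => by
    show ∑ j, T.a (σ i) (σ j) * T.m (σ j) = 0
    rw [Equiv.sum_comp σ fun j => T.a (σ i) j * T.m j]
    exact row T (σ i)
  w_dvd i j := T.w_dvd _ _

lemma reindex_genus {n : ℕ} (T : NumericalType n) (σ : Equiv.Perm (Fin n)) : (reindex T σ).genus = T.genus := by
  simp only [NumericalType.genus, reindex]
  rw [Equiv.sum_comp σ fun i => T.m i * T.w i * (T.g i - 1), Equiv.sum_comp σ fun i => T.m i * T.a i i]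

/-- Renumbering does not change the Picard group. -/
def reindexPic {n : ℕ} (T : NumericalType n) (σ : Equiv.Perm (Fin n)) : T.Pic ≃ₗ[ℤ] (reindex T σ).Pic := by
  refine Submodule.Quotient.equiv _ _ (LinearEquiv.funCongrLeft ℤ ℤ σ) ?_
  have key : ∀ y : Fin n → ℤ, (reindex T σ).picMatrix.mulVec (fun i => y (σ i)) = fun i => T.picMatrix.mulVec y (σ i) :=
    fun y => funext fun i => by
      simp only [Matrix.mulVec, dotProduct, NumericalType.picMatrix, reindex]
      exact Equiv.sum_comp σ fun j => T.a (σ i) j / T.w (σ i) * y j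
  ext z
  constructor
  · rintro ⟨_, ⟨y, rfl⟩, rfl⟩
    exact ⟨fun i => y (σ i), key y⟩
  · rintro ⟨y, rfl⟩
    refine ⟨T.picMatrix.mulVec (fun i => y (σ.symm i)), ⟨_, rfl⟩, ?_⟩
    have := key (fun i => y (σ.symm i))
    simp only [Equiv.symm_apply_apply] at this
    exact this.symm

end Groth.Agent.NumType
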