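import Groth.Agent.NumType.Basic

/-!
Configurations of `(-2)`-indices inside a numerical type.
-/

set_option autoImplicit false

open Finset Models

namespace Groth.Agent.NumType

variable {n k : ℕ} (T : NumericalType n)

/-- General criterion: a non-negative vector on the configuration on which the form has
non-negative products cannot exist. -/
lemma forbidden' (v : Fin k ↪ Fin n) (hk : k < n) (hv : ∀ a, T.IsMinusTwo (v a))
    (x : Fin k → ℤ) (hx0 : ∀ a, 0 ≤ x a) (hx : ∃ a, x a ≠ 0)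
    (hsum : ∀ a, x a ≠ 0 → 2 * T.w (v a) * x a ≤ ∑ b ∈ univ.erase a, T.a (v a) (v b) * x b) : False := by
  obtain ⟨a0, ha0⟩ := hx
  refine not_le.mpr (quad_sub T v hk x fun h => ha0 (congrFun h a0)) (Finset.sum_nonneg fun a _ => ?_)
  rcases eq_or_ne (x a) 0 with h | h
  · simp [h]
  rw [← Finset.sum_erase_add _ _ (mem_univ a), (hv a).2]
  have h1 := mul_nonneg (hx0 a) (sub_nonneg.mpr (hsum a h))
  have h2 : ∑ b ∈ univ.erase a, T.a (v a) (v b) * x a * x b =
      x a * ∑ b ∈ univ.erase a, T.a (v a) (v b) * x b := by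
    rw [Finset.mul_sum]; exact Finset.sum_congr rfl fun b _ => by ring
  rw [h2]
  linarith

lemma off_nonneg (v : Fin k ↪ Fin n) {x : Fin k → ℤ} (hx0 : ∀ a, 0 ≤ x a) {a b : Fin k}
    (h : b ∈ univ.erase a) : 0 ≤ T.a (v a) (v b) * x b :=
  mul_nonneg (T.offDiag_nonneg _ _ fun e => (ne_of_mem_erase h) (v.injective e).symm) (hx0 b)

lemma sum_ge (v : Fin k ↪ Fin n) {x : Fin k → ℤ} (hx0 : ∀ a, 0 ≤ x a) {a : Fin k}
    (s : Finset (Fin k)) (hs : a ∉ s) {y : ℤ} (h : y ≤ ∑ b ∈ s, T.a (v a) (v b) * x b) :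
    y ≤ ∑ b ∈ univ.erase a, T.a (v a) (v b) * x b :=
  h.trans (Finset.sum_le_sum_of_subset_of_nonneg
    (fun _ hb => mem_erase.mpr ⟨fun e => hs (e ▸ hb), mem_univ _⟩) fun _ hb _ => off_nonneg T v hx0 hb)

lemma sum_ge_one (v : Fin k ↪ Fin n) {x : Fin k → ℤ} (hx0 : ∀ a, 0 ≤ x a) {a b : Fin k}
    (hb : a ≠ b) {y : ℤ} (h : y ≤ T.a (v a) (v b) * x b) :
    y ≤ ∑ c ∈ univ.erase a, T.a (v a) (v c) * x c :=
  sum_ge T v hx0 {b} (by simpa using hb) (by simpa using h)

lemma sum_ge_two (v : Fin k ↪ Fin n) {x : Fin k → ℤ} (hx0 : ∀ a, 0 ≤ x a) {a b c : Fin k}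
    (hb : a ≠ b) (hc : a ≠ c) (hbc : b ≠ c) {y : ℤ}
    (h : y ≤ T.a (v a) (v b) * x b + T.a (v a) (v c) * x c) :
    y ≤ ∑ d ∈ univ.erase a, T.a (v a) (v d) * x d :=
  sum_ge T v hx0 {b, c} (by simp [hb, hc]) (by rw [sum_pair hbc]; exact h)

lemma sum_ge_three (v : Fin k ↪ Fin n) {x : Fin k → ℤ} (hx0 : ∀ a, 0 ≤ x a) {a b c d : Fin k}
    (hb : a ≠ b) (hc : a ≠ c) (hd : a ≠ d) (hbc : b ≠ c) (hbd : b ≠ d) (hcd : c ≠ d) {y : ℤ}
    (h : y ≤ T.a (v a) (v b) * x b + T.a (v a) (v c) * x c + T.a (v a) (v d) * x d) :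
    y ≤ ∑ e ∈ univ.erase a, T.a (v a) (v e) * x e :=
  sum_ge T v hx0 {b, c, d} (by simp [hb, hc, hd]) (by
    rw [sum_insert (by simp [hbc, hbd]), sum_pair hcd]; linarith)

/-- Equal weights and intersection number equal to the weight. -/
def Simple (i j : Fin n) : Prop := T.w j = T.w i ∧ T.a i j = T.w i

/-- The weights differ by a factor two. -/
def Double (i j : Fin n) : Prop :=
  ∃ p q : ℤ, p * q = 2 ∧ 0 < p ∧ 0 < q ∧ T.a i j = p * T.w i ∧ T.a i j = q * T.w j

variable {T}

lemma Simple.symm {i j : Fin n} (h : Simple T i j) : Simple T j i :=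
  ⟨h.1.symm, by rw [symm' T, h.2, h.1]⟩

lemma Double.symm {i j : Fin n} (h : Double T i j) : Double T j i := by
  obtain ⟨p, q, hpq, hp, hq, h1, h2⟩ := h
  exact ⟨q, p, by rw [mul_comm, hpq], hq, hp, by rw [symm' T, h2], by rw [symm' T, h1]⟩

lemma Double.cases {i j : Fin n} (h : Double T i j) :
    (T.w j = 2 * T.w i ∧ T.a i j = 2 * T.w i) ∨ (T.w i = 2 * T.w j ∧ T.a i j = 2 * T.w j) := by
  obtain ⟨p, q, hpq, hp, hq, h1, h2⟩ := h
  have : p ≤ 2 := by nlinarith
  interval_cases p
  · obtain rfl : q = 2 := by omega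
    exact Or.inr ⟨by linarith, by linarith⟩
  · obtain rfl : q = 1 := by omega
    exact Or.inl ⟨by linarith, by linarith⟩

variable (T)

/-- An edge next to another edge is simple or double. -/
lemma edge_cases (hn : 3 < n) {i j l : Fin n} (hij : i ≠ j) (hjl : j ≠ l) (hil : i ≠ l)
    (hi : T.IsMinusTwo i) (hj : T.IsMinusTwo j) (hl : T.IsMinusTwo l) (h1 : T.a i j ≠ 0)
    (h2 : T.a j l ≠ 0) :
    (Simple T i j ∨ Double T i j) ∧ (Double T i j → Simple T j l) ∧ T.a i l = 0 := by
  let v : Fin 3 ↪ Fin n := ⟨![i, j, l], fun a b h => by fin_cases a <;> fin_cases b <;> simp_all⟩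
  have hv : ∀ a, T.IsMinusTwo (v a) := fun a => by fin_cases a <;> simp [v, hi, hj, hl]
  obtain ⟨p, q, hp, hq, hpq, ha, hb⟩ := pair_cases T (by omega) hij hi hj h1
  obtain ⟨p', q', hp', hq', hpq', ha', hb'⟩ := pair_cases T (by omega) hjl hj hl h2
  have hwj := T.w_pos j
  have key : p * q + p' * q' ≤ 3 := by
    by_contra hc; push Not at hc
    refine forbidden' T v hn hv ![p, 2, q'] (fun a => by fin_cases a <;> simp <;> linarith)
      ⟨1, by simp⟩ (fun a _ => ?_)
    have hx0 : ∀ b : Fin 3, 0 ≤ ![p, 2, q'] b := fun b => by fin_cases b <;> simp <;> linarith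
    fin_cases a
    · refine sum_ge_one T v hx0 (b := 1) (by decide) ?_
      simp [v, ha]; linarith
    · refine sum_ge_two T v hx0 (b := 0) (c := 2) (by decide) (by decide) (by decide) ?_
      simp [v, symm' T j i]
      rw [hb, ha']
      nlinarith
    · refine sum_ge_one T v hx0 (b := 1) (by decide) ?_
      simp [v, symm' T l j, hb']; linarith
  have hpq1 : p * q ≤ 2 := by nlinarith
  refine ⟨?_, fun hd => ?_, ?_⟩
  · rcases lt_or_eq_of_le hpq1 with h | h
    · left
      have h11 : p = 1 := by nlinarith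
      have h12 : q = 1 := by nlinarith
      subst h11; subst h12
      exact ⟨by linarith, by linarith⟩
    · exact Or.inr ⟨p, q, h, by linarith, by linarith, ha, hb⟩
  · obtain ⟨P, Q, hPQ, hP, hQ, hA, hB⟩ := hd
    have e1 : p = P := mul_right_cancel₀ (T.w_pos i).ne' (ha.symm.trans hA)
    have e2 : q = Q := mul_right_cancel₀ hwj.ne' (hb.symm.trans hB)
    subst e1; subst e2
    have h11 : p' = 1 := by nlinarith
    have h12 : q' = 1 := by nlinarith
    subst h11; subst h12
    exact ⟨by linarith, by linarith⟩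
  · by_contra h3
    refine forbidden T v hn hv {(0, 1), (1, 2), (0, 2)} ?_ ![1, 1, 1] (by decide) (by decide) (by decide)
    simp [v, h1, h2, h3]

/-- All edges at a vertex with three neighbours are simple. -/
lemma branch (hn : 4 < n) {c l1 l2 l3 : Fin n} (h1 : c ≠ l1) (h2 : c ≠ l2) (h3 : c ≠ l3)
    (h12 : l1 ≠ l2) (h13 : l1 ≠ l3) (h23 : l2 ≠ l3) (hc : T.IsMinusTwo c) (hl1 : T.IsMinusTwo l1)
    (hl2 : T.IsMinusTwo l2) (hl3 : T.IsMinusTwo l3) (e1 : T.a c l1 ≠ 0) (e2 : T.a c l2 ≠ 0)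
    (e3 : T.a c l3 ≠ 0) : Simple T c l1 := by
  have hcl := edge_cases T (by omega) (Ne.symm h1) h2 h12 hl1 hc hl2
    (by rw [symm' T]; exact e1) e2
  rcases hcl.1 with hs | ⟨p, q, hpq, hp, hq, ha, hb⟩
  · exact hs.symm
  exfalso
  let v : Fin 4 ↪ Fin n := ⟨![c, l1, l2, l3], fun a b h => by fin_cases a <;> fin_cases b <;> simp_all⟩
  have hx0 : ∀ b : Fin 4, 0 ≤ ![2, p, 1, 1] b := fun b => by fin_cases b <;> simp; linarith
  refine forbidden' T v hn (fun a => by fin_cases a <;> simp [v, hc, hl1, hl2, hl3]) _ hx0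
    ⟨0, by simp⟩ (fun a _ => ?_)
  have hwc := T.w_pos c
  fin_cases a
  · refine sum_ge_three T v hx0 (b := 1) (c := 2) (d := 3) (by decide) (by decide) (by decide)
      (by decide) (by decide) (by decide) ?_
    simp [v, symm' T c l1]
    have g2 := (w_le T h2 e2).1
    have g3 := (w_le T h3 e3).1
    rw [hb]
    nlinarith
  · refine sum_ge_one T v hx0 (b := 0) (by decide) ?_
    simp [v]; rw [ha]; linarith
  · refine sum_ge_one T v hx0 (b := 0) (by decide) ?_
    simp [v, symm' T l2 c]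
    have := (w_le T h2 e2).2
    linarith
  · refine sum_ge_one T v hx0 (b := 0) (by decide) ?_
    simp [v, symm' T l3 c]
    have := (w_le T h3 e3).2
    linarith

section Chain

variable (v : Fin k ↪ Fin n)

/-- Consecutive members of the chain meet. -/
def IsChain : Prop := ∀ j j' : Fin k, j'.val = j.val + 1 → T.a (v j) (v j') ≠ 0

variable {v}

lemma chain_far (hk : k < n) (hv : ∀ a, T.IsMinusTwo (v a)) (hc : IsChain T v) (j l : Fin k)
    (h : j.val + 1 < l.val) : T.a (v j) (v l) = 0 := by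
  by_contra hne
  let x : Fin k → ℤ := fun a => if j.val ≤ a.val ∧ a.val ≤ l.val then 1 else 0
  have hx0 : ∀ a, 0 ≤ x a := fun a => by simp only [x]; split_ifs <;> norm_num
  refine forbidden' T v hk hv x hx0 ⟨j, by simp [x]; omega⟩ fun a ha => ?_
  have hr : j.val ≤ a.val ∧ a.val ≤ l.val := by by_contra hh; exact ha (if_neg hh)
  have hxa : x a = 1 := if_pos hr
  have hxj : x j = 1 := if_pos ⟨le_rfl, by omega⟩
  have hxl : x l = 1 := if_pos ⟨by omega, le_rfl⟩
  have hw : ∀ b, a ≠ b → T.a (v a) (v b) ≠ 0 → T.w (v a) ≤ T.a (v a) (v b) :=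
    fun b hb h => (w_le T (v.injective.ne hb) h).1
  have hl' := l.2
  rw [hxa]
  rcases eq_or_lt_of_le hr.1 with h1 | h1
  · obtain rfl : a = j := Fin.ext h1.symm
    have hxn : x ⟨a.val + 1, by omega⟩ = 1 := if_pos ⟨by simp, by simp; omega⟩
    refine sum_ge_two T v hx0 (b := ⟨a.val + 1, by omega⟩) (c := l) (Fin.ne_of_val_ne (by simp))
      (Fin.ne_of_val_ne (by omega)) (Fin.ne_of_val_ne (by simp; omega)) ?_
    rw [hxn, hxl]
    have := hw ⟨a.val + 1, by omega⟩ (Fin.ne_of_val_ne (by simp)) (hc _ _ rfl)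
    have := hw l (Fin.ne_of_val_ne (by omega)) hne
    linarith
  · have hxp : x ⟨a.val - 1, by omega⟩ = 1 := if_pos ⟨by simp; omega, by simp; omega⟩
    have hp := hw ⟨a.val - 1, by omega⟩ (Fin.ne_of_val_ne (by simp; omega))
      (by rw [symm' T]; exact hc _ _ (by simp; omega))
    rcases eq_or_lt_of_le hr.2 with h2 | h2
    · obtain rfl : a = l := Fin.ext h2
      refine sum_ge_two T v hx0 (b := ⟨a.val - 1, by omega⟩) (c := j) (Fin.ne_of_val_ne (by simp; omega))
        (Fin.ne_of_val_ne (by omega)) (Fin.ne_of_val_ne (by simp; omega)) ?_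
      rw [hxp, hxj]
      have := hw j (Fin.ne_of_val_ne (by omega)) (by rw [symm' T]; exact hne)
      linarith
    · have hxn : x ⟨a.val + 1, by omega⟩ = 1 := if_pos ⟨by simp; omega, by simp; omega⟩
      refine sum_ge_two T v hx0 (b := ⟨a.val - 1, by omega⟩) (c := ⟨a.val + 1, by omega⟩)
        (Fin.ne_of_val_ne (by simp; omega)) (Fin.ne_of_val_ne (by simp)) (Fin.ne_of_val_ne (by simp)) ?_
      rw [hxp, hxn]
      have := hw ⟨a.val + 1, by omega⟩ (Fin.ne_of_val_ne (by simp)) (hc _ _ rfl)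
      linarith

lemma chain_edge (hn : 3 < n) (hk : 3 ≤ k) (hv : ∀ a, T.IsMinusTwo (v a)) (hc : IsChain T v)
    (j j' : Fin k) (h : j'.val = j.val + 1) :
    Simple T (v j) (v j') ∨ Double T (v j) (v j') := by
  have := j'.2
  have hne : ∀ a b : Fin k, a.val ≠ b.val → v a ≠ v b := fun a b h => v.injective.ne (Fin.ne_of_val_ne h)
  rcases Nat.eq_zero_or_pos j.val with h0 | h0
  · let l : Fin k := ⟨j'.val + 1, by omega⟩
    exact (edge_cases T hn (hne j j' (by omega)) (hne j' l (by simp [l])) (hne j l (by simp [l]; omega))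
      (hv _) (hv _) (hv _) (hc j j' h) (hc j' l rfl)).1
  · let l : Fin k := ⟨j.val - 1, by omega⟩
    rcases (edge_cases T hn (hne j' j (by omega)) (hne j l (by simp [l]; omega)) (hne j' l (by simp [l]; omega))
      (hv _) (hv _) (hv _) (by rw [symm' T]; exact hc j j' h)
      (by rw [symm' T]; exact hc l j (by simp [l]; omega))).1 with hs | hd
    · exact Or.inl hs.symm
    · exact Or.inr hd.symm

lemma chain_next (hn : 3 < n) (hv : ∀ a, T.IsMinusTwo (v a)) (hc : IsChain T v)
    (a b c : Fin k) (h : b.val = a.val + 1) (h' : c.val = b.val + 1)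
    (hd : Double T (v a) (v b)) : Simple T (v b) (v c) :=
  (edge_cases T hn (v.injective.ne (Fin.ne_of_val_ne (by omega))) (v.injective.ne (Fin.ne_of_val_ne (by omega)))
    (v.injective.ne (Fin.ne_of_val_ne (by omega))) (hv _) (hv _) (hv _) (hc a b h) (hc b c h')).2.1 hd

lemma simple_run (a : Fin k) : ∀ b : Fin k, a.val ≤ b.val →
    (∀ j j' : Fin k, a.val ≤ j.val → j'.val ≤ b.val → j'.val = j.val + 1 → Simple T (v j) (v j')) →
    T.w (v b) = T.w (v a) := by
  intro b
  obtain ⟨b, hb⟩ := b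
  induction b with
  | zero => intro hab _; rw [show a = ⟨0, hb⟩ from Fin.ext (by simp at hab ⊢; omega)]
  | succ b ih =>
    intro hab hs
    simp only at hab
    rcases eq_or_lt_of_le hab with h | h
    · rw [show a = ⟨b + 1, hb⟩ from Fin.ext h]
    · rw [(hs ⟨b, by omega⟩ ⟨b + 1, hb⟩ (by simp; omega) le_rfl rfl).1]
      exact ih (by omega) (by simp; omega) fun j j' h1 h2 h3 => hs j j' h1 (by simp at h2 ⊢; omega) h3

/-- Two double edges with only simple edges in between are impossible. -/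
lemma no_double_double (hk : k < n) (hv : ∀ a, T.IsMinusTwo (v a)) (j0 j1 l0 l1 : Fin k)
    (hj : j1.val = j0.val + 1) (hl : l1.val = l0.val + 1) (hjl : j1.val ≤ l0.val)
    (hd : Double T (v j0) (v j1)) (hd' : Double T (v l0) (v l1))
    (hs : ∀ j j' : Fin k, j1.val ≤ j.val → j'.val ≤ l0.val → j'.val = j.val + 1 → Simple T (v j) (v j')) :
    False := by
  obtain ⟨p, q, hpq, hp, hq, ha, hb⟩ := hd
  obtain ⟨p', q', hpq', hp', hq', ha', hb'⟩ := hd'
  let x : Fin k → ℤ := fun a =>
    if a = j0 then p else if a = l1 then q' else if j1.val ≤ a.val ∧ a.val ≤ l0.val then 2 else 0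
  have hx0 : ∀ a, 0 ≤ x a := fun a => by simp only [x]; split_ifs <;> linarith
  have hW : ∀ a : Fin k, j1.val ≤ a.val → a.val ≤ l0.val → T.w (v a) = T.w (v j1) :=
    fun a h1 h2 => simple_run T j1 a h1 fun j j' g1 g2 g3 => hs j j' g1 (by omega) g3
  have hx2 : ∀ a : Fin k, j1.val ≤ a.val → a.val ≤ l0.val → x a = 2 := fun a h1 h2 => by
    simp only [x]; rw [if_neg (Fin.ne_of_val_ne (by omega)), if_neg (Fin.ne_of_val_ne (by omega)), if_pos ⟨h1, h2⟩]
  have hxj : x j0 = p := if_pos rfl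
  have hxl : x l1 = q' := (if_neg (Fin.ne_of_val_ne (by omega))).trans (if_pos rfl)
  refine forbidden' T v hk hv x hx0 ⟨j1, by rw [hx2 j1 le_rfl hjl]; norm_num⟩ fun a hxa => ?_
  by_cases c1 : a = j0
  · subst c1
    refine sum_ge_one T v hx0 (b := j1) (Fin.ne_of_val_ne (by omega)) ?_
    rw [hxj, hx2 j1 le_rfl hjl, ha]; linarith
  by_cases c2 : a = l1
  · subst c2
    refine sum_ge_one T v hx0 (b := l0) (Fin.ne_of_val_ne (by omega)) ?_
    rw [hxl, hx2 l0 hjl le_rfl, symm' T, hb']; linarith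
  have hr : j1.val ≤ a.val ∧ a.val ≤ l0.val := by
    by_contra hh; exact hxa (by simp only [x, if_neg c1, if_neg c2, if_neg hh])
  have hl1' := l1.2
  let P : Fin k := ⟨a.val - 1, by omega⟩
  let N : Fin k := ⟨a.val + 1, by omega⟩
  have haW : T.w (v a) = T.w (v j1) := hW a hr.1 hr.2
  have hP : T.a (v a) (v P) * x P = 2 * T.w (v a) := by
    rcases eq_or_lt_of_le hr.1 with h1 | h1
    · obtain rfl : a = j1 := Fin.ext h1.symm
      rw [show P = j0 from Fin.ext (by simp [P]; omega), hxj, symm' T, hb]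
      linear_combination (T.w (v a)) * hpq
    · rw [hx2 P (by simp [P]; omega) (by simp [P]; omega), symm' T,
        (hs P a (by simp [P]; omega) hr.2 (by simp [P]; omega)).2,
        hW P (by simp [P]; omega) (by simp [P]; omega), haW]
      ring
  have hN : T.a (v a) (v N) * x N = 2 * T.w (v a) := by
    rcases eq_or_lt_of_le hr.2 with h1 | h1
    · obtain rfl : a = l0 := Fin.ext h1
      rw [show N = l1 from Fin.ext (by simp [N]; omega), hxl, ha']
      linear_combination (T.w (v a)) * hpq'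
    · rw [hx2 N (by simp [N]; omega) (by simp [N]; omega), (hs a N hr.1 (by simp [N]; omega) rfl).2]
      ring
  refine sum_ge_two T v hx0 (b := P) (c := N) (Fin.ne_of_val_ne (by simp [P]; omega))
    (Fin.ne_of_val_ne (by simp [N])) (Fin.ne_of_val_ne (by simp [P, N])) ?_
  rw [hP, hN, hx2 a hr.1 hr.2]
  linarith

end Chain

/-- The completed `F4` configuration is impossible. -/
lemma no_F4 (hn : 5 < n) (v : Fin 5 ↪ Fin n) (hv : ∀ a, T.IsMinusTwo (v a))
    (s0 : Simple T (v 0) (v 1)) (d : Double T (v 1) (v 2)) (s2 : Simple T (v 2) (v 3))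
    (s3 : Simple T (v 3) (v 4)) : False := by
  obtain ⟨p, q, hpq, hp, hq, ha, hb⟩ := d
  have hx0 : ∀ b : Fin 5, 0 ≤ ![p, 2 * p, 3, 2, 1] b := fun b => by fin_cases b <;> simp <;> linarith
  refine forbidden' T v hn hv _ hx0 ⟨4, by simp⟩ (fun a _ => ?_)
  fin_cases a
  · refine sum_ge_one T v hx0 (b := 1) (by decide) ?_
    simp; rw [s0.2]; linarith
  · refine sum_ge_two T v hx0 (b := 0) (c := 2) (by decide) (by decide) (by decide) ?_
    simp; rw [symm' T (v 1) (v 0), s0.2, ha, ← s0.1]; linarith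
  · refine sum_ge_two T v hx0 (b := 1) (c := 3) (by decide) (by decide) (by decide) ?_
    simp; rw [symm' T (v 2) (v 1), hb, s2.2, show q * T.w (v 2) * (2 * p) = 4 * T.w (v 2) by linear_combination (2 * T.w (v 2)) * hpq]; linarith
  · refine sum_ge_two T v hx0 (b := 2) (c := 4) (by decide) (by decide) (by decide) ?_
    simp; rw [symm' T (v 3) (v 2), s2.2, s3.2, ← s2.1]; linarith
  · refine sum_ge_one T v hx0 (b := 3) (by decide) ?_
    simp; rw [symm' T (v 4) (v 3), s3.2, ← s3.1]; linarith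

/-- In a chain with at least five members only the two extreme edges can be double. -/
lemma chain_inner_simple {v : Fin k ↪ Fin n} (h5 : 5 ≤ k) (hk : k < n) (hv : ∀ a, T.IsMinusTwo (v a))
    (hc : IsChain T v) (j j' : Fin k) (h : j'.val = j.val + 1) (h0 : 0 < j.val)
    (h1 : j'.val + 1 < k) : Simple T (v j) (v j') := by
  rcases chain_edge T (by omega) (by omega) hv hc j j' h with hs | hd
  · exact hs
  exfalso
  have hrefl : ∀ a b : Fin k, b.val = a.val + 1 → Double T (v a) (v b) → ∀ c : Fin k,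
      c.val + 1 = a.val → Simple T (v c) (v a) := by
    intro a b hab hD c hca
    rcases chain_edge T (by omega) (by omega) hv hc c a (by omega) with hs | hd2
    · exact hs
    · have := chain_next T (by omega) hv hc c a b (by omega) hab hd2
      obtain ⟨p, q, hpq, hp, hq, e1, e2⟩ := hD
      exfalso
      have hw := T.w_pos (v a)
      rw [this.2] at e1 e2
      have : p = 1 := by nlinarith
      subst this
      have h3 : q = 2 := by linarith
      subst h3
      have := T.w_pos (v b); linarith [‹Simple T (v a) (v b)›.1]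
  by_cases hside : j.val + 3 < k
  · let e : Fin 5 ↪ Fin k := ⟨fun i => ⟨j.val - 1 + i.val, by omega⟩,
      fun a b hab => Fin.ext (by simp at hab; omega)⟩
    have s0 : Simple T (v (e 0)) (v (e 1)) := by
      have h01 : e 1 = j := Fin.ext (by simp [e]; omega)
      rw [h01]; exact hrefl j j' h hd _ (by simp [e]; omega)
    have d : Double T (v (e 1)) (v (e 2)) := by
      rw [show e 1 = j from Fin.ext (by simp [e]; omega), show e 2 = j' from Fin.ext (by simp [e]; omega)]
      exact hd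
    have s2 := chain_next T (by omega) hv hc (e 1) (e 2) (e 3) (by simp [e]) (by simp [e]) d
    rcases chain_edge T (by omega) (by omega) hv hc (e 3) (e 4) (by simp [e]) with s3 | d3
    · exact no_F4 T (by omega) (e.trans v) (fun a => hv _) s0 d s2 s3
    · exact no_double_double T hk hv (e 1) (e 2) (e 3) (e 4) (by simp [e]) (by simp [e])
        (by simp [e]) d d3 fun a b g1 g2 g3 => by
          rw [show a = e 2 from Fin.ext (by simp [e] at *; omega), show b = e 3 from Fin.ext (by simp [e] at *; omega)]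
          exact s2
  · let e : Fin 5 ↪ Fin k := ⟨fun i => ⟨j'.val + 1 - i.val, by omega⟩,
      fun a b hab => Fin.ext (by simp at hab; omega)⟩
    have e1 : e 1 = j' := Fin.ext (by simp [e])
    have e2 : e 2 = j := Fin.ext (by simp [e]; omega)
    have s0 : Simple T (v (e 0)) (v (e 1)) := by
      rw [e1]; exact (chain_next T (by omega) hv hc j j' (e 0) h (by simp [e]) hd).symm
    have d : Double T (v (e 1)) (v (e 2)) := by rw [e1, e2]; exact hd.symm
    have s2 : Simple T (v (e 2)) (v (e 3)) := by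
      rw [e2]; exact (hrefl j j' h hd _ (by simp [e]; omega)).symm
    rcases chain_edge T (by omega) (by omega) hv hc (e 4) (e 3) (by simp [e]; omega) with s3 | d3
    · exact no_F4 T (by omega) (e.trans v) (fun a => hv _) s0 d s2 s3.symm
    · exact no_double_double T hk hv (e 4) (e 3) j j' (by simp [e]; omega) h
        (by simp [e]; omega) d3 hd fun a b g1 g2 g3 => by
          rw [show a = e 3 from Fin.ext (by simp [e] at *; omega), show b = e 2 from Fin.ext (by simp [e] at *; omega)]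
          exact s2.symm

/-- Classification of a chain whose inner edges are simple. -/
lemma chain_class {v : Fin k ↪ Fin n} (h4 : 4 ≤ k) (hk : k < n) (hv : ∀ a, T.IsMinusTwo (v a))
    (hc : IsChain T v)
    (hin : ∀ j j' : Fin k, j'.val = j.val + 1 → 0 < j.val → j'.val + 1 < k → Simple T (v j) (v j')) :
    ∃ (u : Fin k → Fin n) (w : ℤ), ((∀ j, u j = v j) ∨ (∀ j, u j = v (Fin.rev j))) ∧
      (∀ j l : Fin k, j.val + 1 < l.val → T.a (u j) (u l) = 0) ∧
      ((∀ j : Fin k, T.w (u j) = w) ∧ (∀ j j' : Fin k, j'.val = j.val + 1 → T.a (u j) (u j') = w) ∨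
        ((∀ j : Fin k, j.val + 1 < k → T.w (u j) = w) ∧ (∀ j : Fin k, j.val + 1 = k → T.w (u j) = 2 * w) ∧
          (∀ j j' : Fin k, j'.val = j.val + 1 → j'.val + 1 < k → T.a (u j) (u j') = w) ∧
          (∀ j j' : Fin k, j'.val = j.val + 1 → j'.val + 1 = k → T.a (u j) (u j') = 2 * w)) ∨
        ((∀ j : Fin k, j.val + 1 < k → T.w (u j) = 2 * w) ∧ (∀ j : Fin k, j.val + 1 = k → T.w (u j) = w) ∧
          (∀ j j' : Fin k, j'.val = j.val + 1 → T.a (u j) (u j') = 2 * w))) := by
  let a0 : Fin k := ⟨0, by omega⟩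
  let a1 : Fin k := ⟨1, by omega⟩
  let b1 : Fin k := ⟨k - 2, by omega⟩
  let b0 : Fin k := ⟨k - 1, by omega⟩
  -- a normal form for a chain whose first edge is simple
  have norm : ∀ v : Fin k ↪ Fin n, (∀ a, T.IsMinusTwo (v a)) → IsChain T v →
      (∀ j j' : Fin k, j'.val = j.val + 1 → j'.val + 1 < k → Simple T (v j) (v j')) →
      ∃ w : ℤ, (∀ j l : Fin k, j.val + 1 < l.val → T.a (v j) (v l) = 0) ∧
      ((∀ j : Fin k, T.w (v j) = w) ∧ (∀ j j' : Fin k, j'.val = j.val + 1 → T.a (v j) (v j') = w) ∨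
        ((∀ j : Fin k, j.val + 1 < k → T.w (v j) = w) ∧ (∀ j : Fin k, j.val + 1 = k → T.w (v j) = 2 * w) ∧
          (∀ j j' : Fin k, j'.val = j.val + 1 → j'.val + 1 < k → T.a (v j) (v j') = w) ∧
          (∀ j j' : Fin k, j'.val = j.val + 1 → j'.val + 1 = k → T.a (v j) (v j') = 2 * w)) ∨
        ((∀ j : Fin k, j.val + 1 < k → T.w (v j) = 2 * w) ∧ (∀ j : Fin k, j.val + 1 = k → T.w (v j) = w) ∧
          (∀ j j' : Fin k, j'.val = j.val + 1 → T.a (v j) (v j') = 2 * w))) := by
    intro v hv hc hs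
    have hW : ∀ j : Fin k, j.val + 1 < k → T.w (v j) = T.w (v a0) := fun j hj =>
      simple_run T a0 j (Nat.zero_le _) fun x y _ g2 g3 => hs x y g3 (by omega)
    have hb : ∀ j : Fin k, j.val + 1 = k → j = b0 := fun j hj => Fin.ext (by simp [b0]; omega)
    have hWb1 : T.w (v b1) = T.w (v a0) := hW b1 (by simp [b1]; omega)
    have hfar := chain_far T hk hv hc
    have hlast : ∀ j j' : Fin k, j'.val = j.val + 1 → j'.val + 1 = k → j = b1 ∧ j' = b0 :=
      fun j j' g1 g2 => ⟨Fin.ext (by simp [b1]; omega), hb j' g2⟩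
    rcases chain_edge T (by omega) (by omega) hv hc b1 b0 (by simp [b1, b0]; omega) with hl | hl
    · refine ⟨T.w (v a0), hfar, Or.inl ⟨fun j => ?_, fun j j' g => ?_⟩⟩
      · by_cases g : j.val + 1 < k
        · exact hW j g
        · rw [hb j (by omega), hl.1, hWb1]
      · by_cases g' : j'.val + 1 < k
        · rw [(hs j j' g g').2, hW j (by omega)]
        · obtain ⟨rfl, rfl⟩ := hlast j j' g (by omega)
          rw [hl.2, hWb1]
    · rcases hl.cases with ⟨c1, c2⟩ | ⟨c1, c2⟩
      · refine ⟨T.w (v a0), hfar, Or.inr (Or.inl ⟨hW, fun j g => ?_, fun j j' g g' => ?_, fun j j' g g' => ?_⟩)⟩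
        · rw [hb j g, c1, hWb1]
        · rw [(hs j j' g g').2, hW j (by omega)]
        · obtain ⟨rfl, rfl⟩ := hlast j j' g g'
          rw [c2, hWb1]
      · have hW2 : T.w (v a0) = 2 * T.w (v b0) := hWb1.symm.trans c1
        refine ⟨T.w (v b0), hfar, Or.inr (Or.inr ⟨fun j g => by rw [hW j g, hW2], fun j g => by rw [hb j g], fun j j' g => ?_⟩)⟩
        by_cases g' : j'.val + 1 < k
        · rw [(hs j j' g g').2, hW j (by omega), hW2]
        · obtain ⟨rfl, rfl⟩ := hlast j j' g (by omega)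
          exact c2
  rcases chain_edge T (by omega) (by omega) hv hc a0 a1 rfl with hf | hf
  · obtain ⟨w, h1, h2⟩ := norm v hv hc fun j j' g g' => by
      by_cases g0 : j.val = 0
      · rw [show j = a0 from Fin.ext g0, show j' = a1 from Fin.ext (by simp [a1]; omega)]; exact hf
      · exact hin j j' g (by omega) g'
    exact ⟨v, w, Or.inl fun _ => rfl, h1, h2⟩
  · have hl : Simple T (v b1) (v b0) := by
      rcases chain_edge T (by omega) (by omega) hv hc b1 b0 (by simp [b1, b0]; omega) with hl | hl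
      · exact hl
      · exact (no_double_double T hk hv a0 a1 b1 b0 rfl (by simp [b1, b0]; omega) (by simp [a1, b1]; omega) hf hl
          fun j j' g1 g2 g3 => hin j j' g3 (by simp [a1] at g1; omega) (by simp [b1] at g2; omega)).elim
    let e : Fin k ↪ Fin n := Fin.revPerm.toEmbedding.trans v
    have he : ∀ j, e j = v (Fin.rev j) := fun _ => rfl
    obtain ⟨w, h1, h2⟩ := norm e (fun a => hv _)
      (fun j j' g => by rw [he, he, symm' T]; exact hc _ _ (by simp [Fin.val_rev]; omega))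
      (fun j j' g g' => by
        rw [he, he]
        refine Simple.symm ?_
        by_cases g0 : j.val = 0
        · rw [show Fin.rev j' = b1 from Fin.ext (by simp [b1, Fin.val_rev]; omega),
            show Fin.rev j = b0 from Fin.ext (by simp [b0, Fin.val_rev]; omega)]
          exact hl
        · exact hin _ _ (by simp [Fin.val_rev]; omega) (by simp [Fin.val_rev]; omega) (by simp [Fin.val_rev]; omega))
    exact ⟨e, w, Or.inr he, h1, h2⟩

/-- Type `D`: a chain `0, …, t-1` with `t` attached to `t-2`. All edges are simple. -/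
lemma Dn_simple {t : ℕ} (ht : 4 ≤ t) (hn : t + 1 < n) (v : Fin (t + 1) ↪ Fin n)
    (hv : ∀ j, T.IsMinusTwo (v j))
    (hchain : ∀ j j' : Fin (t + 1), j'.val = j.val + 1 → j'.val < t → T.a (v j) (v j') ≠ 0)
    (hbranch : ∀ j j' : Fin (t + 1), j.val + 2 = t → j'.val = t → T.a (v j) (v j') ≠ 0) :
    (∀ j j' : Fin (t + 1), j'.val = j.val + 1 → j'.val < t → Simple T (v j) (v j')) ∧
      ∀ j j' : Fin (t + 1), j.val + 2 = t → j'.val = t → Simple T (v j) (v j') := by
  let c : Fin (t + 1) := ⟨t - 2, by omega⟩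
  let p : Fin (t + 1) := ⟨t - 3, by omega⟩
  let l1 : Fin (t + 1) := ⟨t - 1, by omega⟩
  let l2 : Fin (t + 1) := ⟨t, by omega⟩
  have hne : ∀ a b : Fin (t + 1), a.val ≠ b.val → v a ≠ v b := fun a b h => v.injective.ne (Fin.ne_of_val_ne h)
  have ecp : T.a (v c) (v p) ≠ 0 := by
    rw [symm' T]; exact hchain p c (by simp [p, c]; omega) (by simp [c]; omega)
  have ec1 : T.a (v c) (v l1) ≠ 0 := hchain c l1 (by simp [l1, c]; omega) (by simp [l1]; omega)
  have ec2 : T.a (v c) (v l2) ≠ 0 := hbranch c l2 (by simp [c]; omega) rfl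
  have d1 : c.val ≠ p.val := by simp [c, p]; omega
  have d2 : c.val ≠ l1.val := by simp [c, l1]; omega
  have d3 : c.val ≠ l2.val := by simp [c, l2]; omega
  have d4 : p.val ≠ l1.val := by simp [p, l1]; omega
  have d5 : p.val ≠ l2.val := by simp [p, l2]; omega
  have d6 : l1.val ≠ l2.val := by simp [l1, l2]; omega
  have sp : Simple T (v c) (v p) := branch T (by omega) (hne _ _ d1) (hne _ _ d2) (hne _ _ d3)
    (hne _ _ d4) (hne _ _ d5) (hne _ _ d6) (hv _) (hv _) (hv _) (hv _) ecp ec1 ec2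
  have s1 : Simple T (v c) (v l1) := branch T (by omega) (hne _ _ d2) (hne _ _ d1) (hne _ _ d3)
    (hne _ _ d4.symm) (hne _ _ d6) (hne _ _ d5) (hv _) (hv _) (hv _) (hv _) ec1 ecp ec2
  have s2 : Simple T (v c) (v l2) := branch T (by omega) (hne _ _ d3) (hne _ _ d1) (hne _ _ d2)
    (hne _ _ d5.symm) (hne _ _ d6.symm) (hne _ _ d4) (hv _) (hv _) (hv _) (hv _) ec2 ecp ec1
  have hb : ∀ j j' : Fin (t + 1), j.val + 2 = t → j'.val = t → Simple T (v j) (v j') := fun j j' g g' => by
    rw [show j = c from Fin.ext (by simp [c]; omega), show j' = l2 from Fin.ext g']; exact s2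
  refine ⟨?_, hb⟩
  by_contra hcon
  push Not at hcon
  classical
  -- the last non-simple edge
  let S := (univ : Finset (Fin (t + 1))).filter fun j =>
    ∃ j' : Fin (t + 1), j'.val = j.val + 1 ∧ j'.val < t ∧ ¬ Simple T (v j) (v j')
  obtain ⟨j0, j0', g1, g2, g3⟩ := hcon
  obtain ⟨j, hj, hmax⟩ := S.exists_max_image (fun j => j.val) ⟨j0, by
    simp only [S, mem_filter, mem_univ, true_and]; exact ⟨j0', g1, g2, g3⟩⟩
  simp only [S, mem_filter, mem_univ, true_and] at hj hmax
  obtain ⟨j', h, h', hns⟩ := hj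
  have hafter : ∀ a b : Fin (t + 1), j.val < a.val → b.val = a.val + 1 → b.val < t → Simple T (v a) (v b) := by
    intro a b ga gb gc
    by_contra hcc
    have := hmax a ⟨b, gb, gc, hcc⟩
    omega
  have hj3 : j'.val + 2 ≤ t := by
    by_contra hcc
    rcases (show j.val = t - 2 ∨ j.val + 3 = t from by omega) with g | g
    · exact hns (by rw [show j = c from Fin.ext (by simp [c]; omega), show j' = l1 from Fin.ext (by simp [l1]; omega)]; exact s1)
    · omega
  have hj4 : j'.val + 3 ≤ t := by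
    by_contra hcc
    exact hns (by rw [show j = p from Fin.ext (by simp [p]; omega), show j' = c from Fin.ext (by simp [c]; omega)]; exact sp.symm)
  obtain ⟨P, Q, hPQ, hP, hQ, hA, hB⟩ : Double T (v j) (v j') := by
    let nx : Fin (t + 1) := ⟨j'.val + 1, by omega⟩
    exact ((edge_cases T (by omega) (hne j j' (by omega)) (hne j' nx (by simp [nx]))
      (hne j nx (by simp [nx]; omega)) (hv _) (hv _) (hv _) (hchain j j' h h')
      (hchain j' nx rfl (by simp [nx]; omega))).1).resolve_left hns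
  let x : Fin (t + 1) → ℤ := fun a =>
    if a = j then P else if a = l1 ∨ a = l2 then 1 else if j'.val ≤ a.val then 2 else 0
  have hx0 : ∀ a, 0 ≤ x a := fun a => by simp only [x]; split_ifs <;> linarith
  have hxj : x j = P := if_pos rfl
  have hx1 : x l1 = 1 := (if_neg (Fin.ne_of_val_ne (by simp [l1]; omega))).trans (if_pos (Or.inl rfl))
  have hx2' : x l2 = 1 := (if_neg (Fin.ne_of_val_ne (by simp [l2]; omega))).trans (if_pos (Or.inr rfl))
  have hx2 : ∀ a : Fin (t + 1), j'.val ≤ a.val → a.val ≤ c.val → x a = 2 := fun a g g' => by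
    simp only [x]
    rw [if_neg (Fin.ne_of_val_ne (by omega)), if_neg, if_pos g]
    simp only [c] at g'
    rintro (r | r) <;> subst r <;> simp [l1, l2] at g' <;> omega
  have hc_le : j'.val ≤ c.val := by simp [c]; omega
  refine forbidden' T v hn hv x hx0 ⟨j', by rw [hx2 j' le_rfl hc_le]; norm_num⟩ fun a hxa => ?_
  by_cases c1 : a = j
  · subst c1
    refine sum_ge_one T v hx0 (b := j') (Fin.ne_of_val_ne (by omega)) ?_
    rw [hxj, hx2 j' le_rfl hc_le, hA]; linarith
  by_cases c2 : a = l1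
  · subst c2
    refine sum_ge_one T v hx0 (b := c) (Fin.ne_of_val_ne (Ne.symm d2)) ?_
    rw [hx1, hx2 c hc_le le_rfl, s1.symm.2]; linarith
  by_cases c3 : a = l2
  · subst c3
    refine sum_ge_one T v hx0 (b := c) (Fin.ne_of_val_ne (Ne.symm d3)) ?_
    rw [hx2', hx2 c hc_le le_rfl, s2.symm.2]; linarith
  have hr : j'.val ≤ a.val := by
    by_contra hh; exact hxa (by simp only [x, if_neg c1, if_neg (not_or.mpr ⟨c2, c3⟩), if_neg hh])
  have hat : a.val + 2 ≤ t := by
    have g1 : a.val ≠ l1.val := fun g => c2 (Fin.ext g)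
    have g2 : a.val ≠ l2.val := fun g => c3 (Fin.ext g)
    simp [l1, l2] at g1 g2
    have := a.2
    omega
  let PR : Fin (t + 1) := ⟨a.val - 1, by omega⟩
  let NX : Fin (t + 1) := ⟨a.val + 1, by omega⟩
  have hPR : T.a (v a) (v PR) * x PR = 2 * T.w (v a) := by
    rcases eq_or_lt_of_le hr with g | g
    · obtain rfl : a = j' := Fin.ext g.symm
      rw [show PR = j from Fin.ext (by simp [PR]; omega), hxj, symm' T, hB]
      linear_combination (T.w (v a)) * hPQ
    · rw [hx2 PR (by simp [PR]; omega) (by simp [PR, c]; omega),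
        (hafter PR a (by simp [PR]; omega) (by simp [PR]; omega) (by omega)).symm.2]
      ring
  rw [hx2 a hr (by simp [c]; omega)]
  rcases eq_or_lt_of_le hat with g | g
  · obtain rfl : a = c := Fin.ext (by simp [c]; omega)
    refine sum_ge_three T v hx0 (b := PR) (c := l1) (d := l2) (Fin.ne_of_val_ne (by simp [PR]; omega))
      (Fin.ne_of_val_ne d2) (Fin.ne_of_val_ne d3) (Fin.ne_of_val_ne (by simp [PR, l1]; omega))
      (Fin.ne_of_val_ne (by simp [PR, l2]; omega)) (Fin.ne_of_val_ne d6) ?_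
    rw [hPR, hx1, hx2', s1.2, s2.2]
    linarith
  · refine sum_ge_two T v hx0 (b := PR) (c := NX) (Fin.ne_of_val_ne (by simp [PR]; omega))
      (Fin.ne_of_val_ne (by simp [NX])) (Fin.ne_of_val_ne (by simp [PR, NX])) ?_
    rw [hPR, hx2 NX (by simp [NX]; omega) (by simp [NX, c]; omega),
      (hafter a NX (by omega) rfl (by simp [NX]; omega)).2]
    linarith

/-- The inequality coming from one row. -/
lemma m_le {i : Fin n} (hi : T.IsMinusTwo i) (s : Finset (Fin n)) (hs : i ∉ s) (c : Fin n → ℤ)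
    (hc : ∀ j ∈ s, T.a i j = c j * T.w i) : ∑ j ∈ s, c j * T.m j ≤ 2 * T.m i := by
  have h := row_le T i s hs
  rw [hi.2] at h
  refine le_of_mul_le_mul_left ?_ (T.w_pos i)
  rw [Finset.mul_sum]
  calc ∑ j ∈ s, T.w i * (c j * T.m j) = ∑ j ∈ s, T.a i j * T.m j :=
        Finset.sum_congr rfl fun j hj => by rw [hc j hj]; ring
    _ ≤ _ := by linarith

lemma m_le1 {i j : Fin n} (hi : T.IsMinusTwo i) (hij : i ≠ j) (c : ℤ) (h : T.a i j = c * T.w i) :
    c * T.m j ≤ 2 * T.m i := by
  simpa using m_le T hi {j} (by simpa using hij) (fun _ => c) (by simpa using h)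

lemma m_le2 {i j l : Fin n} (hi : T.IsMinusTwo i) (hij : i ≠ j) (hil : i ≠ l) (hjl : j ≠ l) (c d : ℤ)
    (h : T.a i j = c * T.w i) (h' : T.a i l = d * T.w i) : c * T.m j + d * T.m l ≤ 2 * T.m i := by
  have := m_le T hi {j, l} (by simp [hij, hil]) (fun b => if b = j then c else d)
    (fun b hb => by
      rcases mem_insert.mp hb with rfl | hb'
      · simpa using h
      · rw [mem_singleton.mp hb', if_neg hjl.symm]; exact h')
  rw [sum_pair hjl] at this
  simpa [hjl.symm] using this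

lemma m_le_simple1 {i j : Fin n} (hi : T.IsMinusTwo i) (hij : i ≠ j) (h : T.a i j = T.w i) :
    T.m j ≤ 2 * T.m i := by simpa using m_le1 T hi hij 1 (by rw [h, one_mul])

lemma m_le_simple2 {i j l : Fin n} (hi : T.IsMinusTwo i) (hij : i ≠ j) (hil : i ≠ l) (hjl : j ≠ l)
    (h : T.a i j = T.w i) (h' : T.a i l = T.w i) : T.m j + T.m l ≤ 2 * T.m i := by
  simpa using m_le2 T hi hij hil hjl 1 1 (by rw [h, one_mul]) (by rw [h', one_mul])

lemma m_le_simple3 {i j l o : Fin n} (hi : T.IsMinusTwo i) (hij : i ≠ j) (hil : i ≠ l) (hio : i ≠ o)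
    (hjl : j ≠ l) (hjo : j ≠ o) (hlo : l ≠ o) (h : T.a i j = T.w i) (h' : T.a i l = T.w i)
    (h'' : T.a i o = T.w i) : T.m j + T.m l + T.m o ≤ 2 * T.m i := by
  have := m_le T hi {j, l, o} (by simp [hij, hil, hio]) (fun _ => 1) (fun b hb => by
    simp only [mem_insert, mem_singleton] at hb
    rcases hb with rfl | rfl | rfl <;> simp [h, h', h''])
  rw [sum_insert (by simp [hjl, hjo]), sum_pair hlo] at this
  linarith

end Groth.Agent.NumType
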