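import Groth.Agent.NumType.Contraction
import Mathlib.LinearAlgebra.Dimension.Finrank
import Mathlib.LinearAlgebra.FiniteDimensional.Basic
import Mathlib.FieldTheory.Finiteness
import Mathlib.Algebra.Module.Torsion.Basic
import Mathlib.Algebra.Field.ZMod

/-!
Torsion of the cokernel of a connected symmetric matrix.
-/

set_option autoImplicit false

open Finset Models

namespace Groth.Agent.NumType

variable {n : ℕ}

/-- The `ℓ`-torsion of the cokernel of a connected "intersection matrix" is bounded by the first Betti number. -/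
theorem card_torsion_le (A : Matrix (Fin n) (Fin n) ℤ) (m : Fin n → ℤ) (hsymm : ∀ i j, A i j = A j i)
    (hA : ∀ i j, i ≠ j → 0 ≤ A i j) (hAm : A.mulVec m = 0)
    (hconn : ∀ I : Finset (Fin n), I.Nonempty → I ≠ univ → ∃ i ∈ I, ∃ j ∉ I, A i j ≠ 0)
    (ℓ : ℕ) (hℓ : ℓ.Prime) (hℓA : ∀ i j, A i j ≠ 0 → ¬ ((ℓ : ℤ) ∣ A i j))
    (hℓm : ∀ i, ¬ ((ℓ : ℤ) ∣ m i)) :
    Finite (Submodule.torsionBy ℤ ((Fin n → ℤ) ⧸ LinearMap.range (Matrix.mulVecLin A)) (ℓ : ℤ)) ∧
    Nat.card (Submodule.torsionBy ℤ ((Fin n → ℤ) ⧸ LinearMap.range (Matrix.mulVecLin A)) (ℓ : ℤ))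
      ≤ ℓ ^ ((univ.filter fun p : Fin n × Fin n => p.1 < p.2 ∧ 0 < A p.1 p.2).card + 1 - n) := by
  classical
  haveI := Fact.mk hℓ
  rcases Nat.eq_zero_or_pos n with rfl | hn
  · haveI : Subsingleton ((Fin 0 → ℤ) ⧸ LinearMap.range (Matrix.mulVecLin A)) :=
      (Submodule.Quotient.mk_surjective _).subsingleton
    refine ⟨inferInstance, ?_⟩
    rw [Nat.card_of_subsingleton (0 : Submodule.torsionBy ℤ _ (ℓ : ℤ))]
    exact Nat.one_le_pow _ _ hℓ.pos
  let E := univ.filter fun p : Fin n × Fin n => p.1 < p.2 ∧ 0 < A p.1 p.2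
  let M : Fin n → (ZMod ℓ) := fun i => (m i : (ZMod ℓ))
  let A' : Fin n → Fin n → (ZMod ℓ) := fun i j => (A i j : (ZMod ℓ))
  have hM : ∀ i, M i ≠ 0 := fun i e => hℓm i ((ZMod.intCast_zmod_eq_zero_iff_dvd _ _).mp e)
  have hA' : ∀ i j, A i j ≠ 0 → A' i j ≠ 0 := fun i j h e => hℓA i j h ((ZMod.intCast_zmod_eq_zero_iff_dvd _ _).mp e)
  have hA'm : ∀ i, ∑ j, A' i j * M j = 0 := fun i => by
    have := congrArg (fun z : ℤ => (z : (ZMod ℓ))) (congrFun hAm i)
    simpa [Matrix.mulVec, dotProduct, A', M] using this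
  have hedge : ∀ i j, A i j ≠ 0 → i < j → (i, j) ∈ E := fun i j h h' =>
    mem_filter.mpr ⟨mem_univ _, h', lt_of_le_of_ne (hA i j h'.ne) (Ne.symm h)⟩
  let i0 : Fin n := ⟨0, hn⟩
  let f : (Fin n → (ZMod ℓ)) →ₗ[(ZMod ℓ)] (Fin n → (ZMod ℓ)) := Matrix.mulVecLin (Matrix.of A')
  let S : Submodule (ZMod ℓ) (Fin n → (ZMod ℓ)) := LinearMap.ker f ⊓ LinearMap.ker (LinearMap.proj i0)
  have hS : ∀ y, y ∈ S ↔ (∀ i, ∑ j, A' i j * y j = 0) ∧ y i0 = 0 := fun y => by
    simp [S, f, funext_iff, Matrix.mulVec, dotProduct]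
  -- the incidence map
  let g : (E → (ZMod ℓ)) →ₗ[(ZMod ℓ)] (Fin n → (ZMod ℓ)) :=
    { toFun := fun u j => ∑ p : E, u p * ((if p.1.1 = j then 1 else 0) - if p.1.2 = j then 1 else 0)
      map_add' := fun u v => funext fun j => by simp [add_mul, sum_add_distrib]
      map_smul' := fun c u => funext fun j => by simp [mul_sum, mul_assoc] }
  let δ : Fin n → Fin n → (ZMod ℓ) := fun i j => if i = j then 1 else 0
  have hg1 : ∀ p : E, δ p.1.1 - δ p.1.2 ∈ LinearMap.range g := fun p =>
    ⟨Pi.single p 1, funext fun j => by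
      show ∑ q : E, _ = _
      rw [Fintype.sum_eq_single p fun q hq => by rw [Pi.single_eq_of_ne hq, zero_mul]]
      simp [δ]⟩
  have hspan : LinearMap.range g ⊔ Submodule.span (ZMod ℓ) {δ i0} = ⊤ := by
    set R := LinearMap.range g ⊔ Submodule.span (ZMod ℓ) {δ i0}
    have hδ : ∀ i, δ i ∈ R := by
      by_contra hne
      let I := univ.filter fun i => δ i ∈ R
      obtain ⟨a, ha, b, hb, hab⟩ := hconn I
        ⟨i0, mem_filter.mpr ⟨mem_univ _, Submodule.mem_sup_right (Submodule.mem_span_singleton_self _)⟩⟩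
        fun e => hne fun i => (mem_filter.mp (e ▸ mem_univ i : i ∈ I)).2
      have ha' := (mem_filter.mp ha).2
      refine hb (mem_filter.mpr ⟨mem_univ _, ?_⟩)
      rcases lt_or_gt_of_ne (fun e => hb (e ▸ ha) : a ≠ b) with h | h
      · have := Submodule.mem_sup_left (T := Submodule.span (ZMod ℓ) {δ i0}) (hg1 ⟨(a, b), hedge a b hab h⟩)
        simpa using sub_mem ha' this
      · have := Submodule.mem_sup_left (T := Submodule.span (ZMod ℓ) {δ i0}) (hg1 ⟨(b, a), hedge b a (hsymm a b ▸ hab) h⟩)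
        simpa using add_mem this ha'
    refine eq_top_iff.mpr fun y _ => ?_
    rw [show y = ∑ i, y i • δ i from funext fun j => by simp [δ]]
    exact sum_mem fun i _ => Submodule.smul_mem _ _ (hδ i)
  have hker : Module.finrank (ZMod ℓ) (LinearMap.ker g) + n ≤ E.card + 1 := by
    have h1 := LinearMap.finrank_range_add_finrank_ker g
    have h2 := Submodule.finrank_add_le_finrank_add_finrank (LinearMap.range g) (Submodule.span (ZMod ℓ) {δ i0})
    rw [hspan, finrank_top] at h2
    have h3 := finrank_span_singleton (K := ZMod ℓ) (v := δ i0) fun e => by simpa [δ] using congrFun e i0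
    simp at h1 h2
    omega
  -- the comparison map
  let ψ : S →ₗ[(ZMod ℓ)] (E → (ZMod ℓ)) :=
    { toFun := fun y p => A' p.1.1 p.1.2 * (y.1 p.1.2 * M p.1.1 - y.1 p.1.1 * M p.1.2)
      map_add' := fun y z => funext fun p => by simp; ring
      map_smul' := fun c y => funext fun p => by simp; ring }
  have hψg : ∀ y, ψ y ∈ LinearMap.ker g := by
    rintro ⟨y, hy⟩
    rw [LinearMap.mem_ker]
    funext j
    show ∑ p : E, A' p.1.1 p.1.2 * (y p.1.2 * M p.1.1 - y p.1.1 * M p.1.2) * _ = 0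
    let F : Fin n × Fin n → (ZMod ℓ) := fun p => A' p.1 p.2 * (y p.2 * M p.1 - y p.1 * M p.2)
    rw [sum_coe_sort E fun p => F p * ((if p.1 = j then 1 else 0) - if p.2 = j then 1 else 0)]
    have hF : ∀ a b, F (a, b) = -F (b, a) := fun a b => by
      simp only [F, A', hsymm a b]; ring
    have hE : ∑ p ∈ E, F p * ((if p.1 = j then 1 else 0) - if p.2 = j then 1 else 0) =
        ∑ p ∈ univ.filter (fun p : Fin n × Fin n => p.1 < p.2),
          F p * ((if p.1 = j then 1 else 0) - if p.2 = j then 1 else 0) := by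
      refine sum_subset (fun p hp => mem_filter.mpr ⟨mem_univ _, (mem_filter.mp hp).2.1⟩) fun p hp hp' => ?_
      have hlt := (mem_filter.mp hp).2
      have h0 : A p.1 p.2 = 0 := by
        by_contra h
        exact hp' (hedge p.1 p.2 h hlt)
      simp [F, A', h0]
    rw [hE, sum_filter, Fintype.sum_prod_type]
    simp only [mul_sub, mul_ite, mul_one, mul_zero]
    have hsplit : ∀ a b : Fin n, (if a < b then (if a = j then F (a, b) else 0) - if b = j then F (a, b) else 0 else 0) =
        (if a = j then (if j < b then F (j, b) else 0) else 0) - if b = j then (if a < j then F (a, j) else 0) else 0 := by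
      intro a b
      by_cases ha : a = j <;> by_cases hb : b = j <;> simp [ha, hb]
      by_cases hab : a < j <;> simp [hab]
    rw [sum_congr rfl fun a _ => sum_congr rfl fun b _ => hsplit a b]
    simp only [sum_sub_distrib, sum_ite_eq', mem_univ, if_true]
    rw [sum_eq_single j (fun a _ ha => sum_eq_zero fun b _ => if_neg ha) (fun h => absurd (mem_univ j) h)]
    simp only [if_true]
    rw [← sum_sub_distrib]
    have hsum : ∀ b, (if j < b then F (j, b) else 0) - (if b < j then F (b, j) else 0) = F (j, b) := fun b => by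
      rcases lt_trichotomy j b with h | h | h
      · rw [if_pos h, if_neg h.not_gt, sub_zero]
      · subst h; simp [F]
      · rw [if_neg h.not_gt, if_pos h, hF b j, zero_sub, neg_neg]
    rw [sum_congr rfl fun b _ => hsum b]
    obtain ⟨hy1, -⟩ := (hS y).mp hy
    simp only [F, mul_sub]
    rw [sum_sub_distrib, sum_congr rfl fun b _ => show A' j b * (y b * M j) = M j * (A' j b * y b) by ring,
      ← mul_sum, hy1, sum_congr rfl fun b _ => show A' j b * (y j * M b) = y j * (A' j b * M b) by ring,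
      ← mul_sum, hA'm]
    simp
  have hψ : Function.Injective ψ := by
    rw [injective_iff_map_eq_zero]
    rintro ⟨y, hy⟩ h
    obtain ⟨-, hy0⟩ := (hS y).mp hy
    refine Subtype.ext (funext fun i => ?_)
    show y i = 0
    by_contra hne
    let I := univ.filter fun i => y i = 0
    obtain ⟨a, ha, b, hb, hab⟩ := hconn I ⟨i0, mem_filter.mpr ⟨mem_univ _, hy0⟩⟩
      fun e => hne (mem_filter.mp (e ▸ mem_univ i : i ∈ I)).2
    have ha' := (mem_filter.mp ha).2
    refine hb (mem_filter.mpr ⟨mem_univ _, ?_⟩)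
    rcases lt_or_gt_of_ne (fun e => hb (e ▸ ha) : a ≠ b) with g | g
    · have h1 : A' a b * (y b * M a - y a * M b) = 0 := congrFun h ⟨(a, b), hedge a b hab g⟩
      simpa [ha', hA' a b hab, hM a] using h1
    · have hba : A b a ≠ 0 := hsymm a b ▸ hab
      have h1 : A' b a * (y a * M b - y b * M a) = 0 := congrFun h ⟨(b, a), hedge b a hba g⟩
      simpa [ha', hA' b a hba, hM a] using h1
  have hdim : Module.finrank (ZMod ℓ) S ≤ E.card + 1 - n := by
    have := LinearMap.finrank_le_finrank_of_injective (f := ψ.codRestrict _ hψg)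
      (fun a b e => hψ (congrArg Subtype.val e))
    omega
  -- the torsion is the image of `S`
  let C := (Fin n → ℤ) ⧸ LinearMap.range (Matrix.mulVecLin A)
  let lift : (Fin n → (ZMod ℓ)) → Fin n → ℤ := fun y i => ((y i).val : ℤ)
  have hlift : ∀ y i, ((lift y i : ℤ) : (ZMod ℓ)) = y i := fun y i => by
    simp only [lift, Int.cast_natCast]; exact ZMod.natCast_zmod_val _
  have hdvd : ∀ y : S, ∀ i, (ℓ : ℤ) ∣ A.mulVec (lift y) i := fun y i => by
    rw [← ZMod.intCast_zmod_eq_zero_iff_dvd]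
    have := ((hS y.1).mp y.2).1 i
    simp only [Matrix.mulVec, dotProduct, Int.cast_sum, Int.cast_mul, hlift]
    exact this
  let φ : S → C := fun y => Submodule.Quotient.mk fun i => A.mulVec (lift y) i / (ℓ : ℤ)
  have hsurj : ∀ c ∈ Submodule.torsionBy ℤ C (ℓ : ℤ), ∃ y, φ y = c := by
    intro c hc
    obtain ⟨z, rfl⟩ := Submodule.Quotient.mk_surjective _ c
    rw [Submodule.mem_torsionBy_iff, ← Submodule.Quotient.mk_smul, Submodule.Quotient.mk_eq_zero] at hc
    obtain ⟨x, hx⟩ := hc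
    rw [Matrix.mulVecLin_apply] at hx
    let t : (ZMod ℓ) := (x i0 : (ZMod ℓ)) / M i0
    let y : Fin n → (ZMod ℓ) := fun i => (x i : (ZMod ℓ)) - t * M i
    have hxK : ∀ i, ∑ j, A' i j * (x j : (ZMod ℓ)) = 0 := fun i => by
      have := congrArg (fun v : ℤ => (v : (ZMod ℓ))) (congrFun hx i)
      simpa [Matrix.mulVec, dotProduct, A'] using this
    have hyS : y ∈ S := (hS y).mpr ⟨fun i => by
        simp only [y, mul_sub, sum_sub_distrib, hxK]
        rw [sum_congr rfl fun j _ => show A' i j * (t * M j) = t * (A' i j * M j) by ring, ← mul_sum, hA'm]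
        simp, by simp [y, t, hM i0]⟩
    refine ⟨⟨y, hyS⟩, ?_⟩
    let s : ℤ := (t.val : ℤ)
    have hu : ∀ i, (ℓ : ℤ) ∣ lift y i - x i + s * m i := fun i => by
      rw [← ZMod.intCast_zmod_eq_zero_iff_dvd]
      push_cast
      simp only [hlift, s, Int.cast_natCast, ZMod.natCast_zmod_val, y, M]
      ring
    choose u hu using hu
    refine (Submodule.Quotient.eq _).mpr ⟨u, funext fun i => mul_left_cancel₀ (Nat.cast_ne_zero.mpr hℓ.ne_zero : (ℓ : ℤ) ≠ 0) ?_⟩
    simp only [Matrix.mulVecLin_apply, Pi.sub_apply, mul_sub]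
    rw [Int.mul_ediv_cancel' (hdvd ⟨y, hyS⟩ i), show (ℓ : ℤ) * z i = A.mulVec x i from (congrFun hx i).symm]
    simp only [Matrix.mulVec, dotProduct, mul_sum]
    have hm0 : ∑ j, A i j * m j = 0 := congrFun hAm i
    have : ∑ j, (ℓ : ℤ) * (A i j * u j) = ∑ j, A i j * lift y j - ∑ j, A i j * x j + s * ∑ j, A i j * m j := by
      rw [mul_sum, ← sum_sub_distrib, ← sum_add_distrib]
      exact sum_congr rfl fun j _ => by linear_combination -(A i j) * hu j
    rw [this, hm0, mul_zero, add_zero]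
  let φ' : Submodule.torsionBy ℤ C (ℓ : ℤ) → S := fun c => (hsurj c.1 c.2).choose
  have hφ' : Function.Injective φ' := fun a b e => Subtype.ext <| by
    rw [← (hsurj a.1 a.2).choose_spec, ← (hsurj b.1 b.2).choose_spec]
    exact congrArg φ e
  refine ⟨Finite.of_injective φ' hφ', (Nat.card_le_card_of_injective φ' hφ').trans ?_⟩
  rw [Module.natCard_eq_pow_finrank (K := ZMod ℓ), Nat.card_zmod]
  exact Nat.pow_le_pow_right hℓ.pos hdim

/-- Contracting an arbitrary `(-1)`-index. -/
lemma exists_contract {n : ℕ} (T : NumericalType (n + 1)) {i : Fin (n + 1)} (hi : T.IsMinusOne i) :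
    ∃ T' : NumericalType n, T'.genus = T.genus ∧ ∃ f : T.Pic →ₗ[ℤ] T'.Pic, Function.Injective f := by
  let σ := Equiv.swap i (Fin.last n)
  have hσ : σ (Fin.last n) = i := Equiv.swap_apply_right _ _
  have h : (reindex T σ).IsMinusOne (Fin.last n) := by
    show T.g (σ (Fin.last n)) = 0 ∧ T.a (σ (Fin.last n)) (σ (Fin.last n)) = -T.w (σ (Fin.last n))
    rw [hσ]; exact hi
  have hc := contract_isContraction (reindex T σ) h
  obtain ⟨f, hf, -⟩ := pic_embeds (reindex T σ) h _ hc
  exact ⟨contract (reindex T σ) h, (genus_eq_of_isContraction _ h _ hc).trans (reindex_genus T σ),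
    f.comp (reindexPic T σ).toLinearMap, hf.comp (reindexPic T σ).injective⟩

end Groth.Agent.NumType
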